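import Cfsg.Agent.Lib.Loc.ChermakDelgado

/-! Thompson's replacement `Z ↦ [x, Z] C_Z([x, Z])` measured against a central series
(Glauberman's finite analogue of Borel's fixed point theorem), with the application that some minimal
centrally large subgroup is normalized by `J(P)` and by all minimal centrally large subgroups. -/

set_option autoImplicit false

namespace Cfsg.Lib.Loc

open Cfsg Subgroup
open scoped Pointwise commutatorElement

variable {G : Type*} [Group G]

/-- `[x, Z]`: the subgroup generated by the commutators `⁅x, a⁆`, `a ∈ Z`. -/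
def eltComm (x : G) (Z : Subgroup G) : Subgroup G := closure {y | ∃ a ∈ Z, ⁅x, a⁆ = y}

/-- Thompson's replacement `M C_Z(M)` for `M = [x, Z]`. -/
def eltRepl (x : G) (Z : Subgroup G) : Subgroup G :=
  eltComm x Z ⊔ (Z ⊓ centralizer (eltComm x Z : Set G))

theorem commutator_mem_eltComm (x : G) {Z : Subgroup G} {a : G} (ha : a ∈ Z) :
    ⁅x, a⁆ ∈ eltComm x Z := subset_closure ⟨a, ha, rfl⟩

theorem eltComm_le_iff {x : G} {Z K : Subgroup G} : eltComm x Z ≤ K ↔ ∀ a ∈ Z, ⁅x, a⁆ ∈ K := by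
  rw [eltComm, closure_le]
  exact ⟨fun h a ha => h ⟨a, ha, rfl⟩, fun h _ ⟨a, ha, e⟩ => e ▸ h a ha⟩

theorem eltComm_le_commutator {x : G} {B : Subgroup G} (hx : x ∈ B) (Z : Subgroup G) :
    eltComm x Z ≤ ⁅B, Z⁆ := eltComm_le_iff.2 fun _ ha => commutator_mem_commutator hx ha

theorem mem_normalizer_of_eltComm_le [Finite G] {x : G} {Z : Subgroup G} (h : eltComm x Z ≤ Z) :
    x ∈ normalizer (Z : Set G) := by
  refine mem_normalizer_fintype fun a ha => ?_
  simpa [commutatorElement_def] using Z.mul_mem (eltComm_le_iff.1 h a ha) ha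

theorem isMulCommutative_eltRepl (x : G) (Z : Subgroup G) [IsMulCommutative Z]
    [IsMulCommutative (eltComm x Z)] : IsMulCommutative (eltRepl x Z) := by
  have : IsMulCommutative (Z ⊓ centralizer (eltComm x Z : Set G) : Subgroup G) :=
    isMulCommutative_of_le inf_le_left
  exact isMulCommutative_sup (le_centralizer_iff.1 inf_le_right)

theorem mem_centralizer_eltComm {x : G} {Z : Subgroup G} [IsMulCommutative Z]
    [IsMulCommutative (eltComm x Z)] {u v : G} (hu : u ∈ Z) (hv : v ∈ Z)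
    (h : ⁅x, u⁆⁻¹ * ⁅x, v⁆ ∈ centralizer (Z : Set G)) :
    u⁻¹ * v ∈ centralizer (eltComm x Z : Set G) := by
  set w := u⁻¹ * v with hw
  have hwZ : w ∈ Z := Z.mul_mem (Z.inv_mem hu) hv
  have h1 : ⁅x, u⁆⁻¹ * ⁅x, v⁆ = u * ⁅x, w⁆ * u⁻¹ := by
    simp only [hw, commutatorElement_def]; group
  have h2 : ⁅x, w⁆ ∈ centralizer (Z : Set G) := by
    have e : ⁅x, w⁆ = u⁻¹ * (⁅x, u⁆⁻¹ * ⁅x, v⁆) * u := by rw [h1]; group
    rw [e]
    exact mul_mem (mul_mem (inv_mem (le_centralizer Z hu)) h) (le_centralizer Z hu)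
  rw [eltComm, centralizer_closure, mem_centralizer_iff]
  rintro _ ⟨a, ha, rfl⟩
  have e1 : ⁅x, a * w⁆ = ⁅x, a⁆ * (a * ⁅x, w⁆) * a⁻¹ := by
    simp only [commutatorElement_def]; group
  have e2 : ⁅x, w * a⁆ = ⁅x, w⁆ * (w * ⁅x, a⁆ * w⁻¹) := by
    simp only [commutatorElement_def]; group
  rw [h2 a ha, ← mul_assoc ⁅x, a⁆, mul_inv_cancel_right, setLike_mul_comm ha hwZ, e2,
    setLike_mul_comm (commutator_mem_eltComm x ha) (commutator_mem_eltComm x hwZ),
    mul_right_inj] at e1
  exact (mul_inv_eq_iff_eq_mul.1 e1).symm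

variable [Finite G]

theorem relIndex_le_eltComm (x : G) (Z : Subgroup G) [IsMulCommutative Z]
    [IsMulCommutative (eltComm x Z)] {N N' : Subgroup G} (h : ∀ u ∈ N', ⁅x, u⁆ ∈ N) :
    (centralizer (eltComm x Z : Set G)).relIndex (Z ⊓ N') ≤
      (centralizer (Z : Set G)).relIndex (eltComm x Z ⊓ N) := by
  refine Nat.card_le_card_of_injective (fun q => QuotientGroup.mk
    (⟨⁅x, (q.out : G)⁆, commutator_mem_eltComm x q.out.2.1, h _ q.out.2.2⟩ :
      ↥(eltComm x Z ⊓ N))) fun q q' e => ?_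
  rw [← q.out_eq, ← q'.out_eq]
  have e' := QuotientGroup.eq.1 e
  exact QuotientGroup.eq.2 (mem_centralizer_eltComm q.out.2.1 q'.out.2.1 e')

theorem card_inf_mul_le_eltRepl (x : G) (Z : Subgroup G) [IsMulCommutative Z]
    [IsMulCommutative (eltComm x Z)] {N N' : Subgroup G} (h : ∀ u ∈ N', ⁅x, u⁆ ∈ N) :
    Nat.card ↥(Z ⊓ N') * (centralizer (Z : Set G)).relIndex (eltComm x Z ⊓ N') ≤
      Nat.card ↥(eltRepl x Z ⊓ N') * (centralizer (Z : Set G)).relIndex (eltComm x Z ⊓ N) := by
  have h1 := relIndex_le_eltComm x Z h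
  have h2 := Core.card_inf_mul_relIndex (centralizer (eltComm x Z : Set G)) (Z ⊓ N')
  have h3 := Core.card_inf_mul_relIndex (centralizer (Z : Set G)) (eltComm x Z ⊓ N')
  have h4 := card_mul_card_le_sup_inf (eltComm x Z ⊓ N')
    (centralizer (eltComm x Z : Set G) ⊓ (Z ⊓ N'))
  have h5 : Nat.card ↥((eltComm x Z ⊓ N') ⊔ (centralizer (eltComm x Z : Set G) ⊓ (Z ⊓ N'))) ≤
      Nat.card ↥(eltRepl x Z ⊓ N') :=
    card_le_of_le (sup_le (inf_le_inf_right _ le_sup_left) (le_inf (le_sup_of_le_right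
      (le_inf (inf_le_right.trans inf_le_left) inf_le_left)) (inf_le_right.trans inf_le_right)))
  have h6 : Nat.card ↥((eltComm x Z ⊓ N') ⊓ (centralizer (eltComm x Z : Set G) ⊓ (Z ⊓ N'))) ≤
      Nat.card ↥(centralizer (Z : Set G) ⊓ (eltComm x Z ⊓ N')) :=
    card_le_of_le (le_inf ((inf_le_right.trans (inf_le_right.trans inf_le_left)).trans
      (le_centralizer Z)) inf_le_left)
  have h7 := h4.trans (Nat.mul_le_mul h5 h6)
  have p : 0 < Nat.card ↥(centralizer (Z : Set G) ⊓ (eltComm x Z ⊓ N')) := Nat.card_pos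
  rw [← h3, mul_assoc, mul_comm] at h7
  have h8 := Nat.le_of_mul_le_mul_right h7 p
  rw [← h2]
  calc _ = _ * _ * _ := by rw [mul_right_comm, mul_comm (Nat.card _)]
    _ ≤ _ := Nat.mul_le_mul h8 h1

/-- Thompson's inequality `|Z| ≤ |M C_Z(M)|`. -/
theorem card_le_card_eltRepl (x : G) (Z : Subgroup G) [IsMulCommutative Z]
    [IsMulCommutative (eltComm x Z)] : Nat.card Z ≤ Nat.card (eltRepl x Z) := by
  have := card_inf_mul_le_eltRepl x Z (N := ⊤) (N' := ⊤) fun _ _ => trivial
  simp only [inf_top_eq] at this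
  exact Nat.le_of_mul_le_mul_right this (Nat.pos_of_ne_zero index_ne_zero_of_finite)

theorem eltRepl_mem_maxAbelian (x : G) {Z : Subgroup G} (hZ : Z ∈ maxAbelianSubgroups G)
    [IsMulCommutative (eltComm x Z)] : eltRepl x Z ∈ maxAbelianSubgroups G := by
  have := hZ.1
  exact ⟨isMulCommutative_eltRepl x Z, fun B hB => (hZ.2 B hB).trans (card_le_card_eltRepl x Z)⟩

/-- In a finite nilpotent group there is a weight on subgroups which every nontrivial Thompson
replacement strictly increases. -/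
theorem exists_weight_lt_eltRepl (G : Type*) [Group G] [Finite G] [Group.IsNilpotent G] :
    ∃ φ : Subgroup G → ℕ, ∀ (x : G) (Z : Subgroup G) [IsMulCommutative Z]
      [IsMulCommutative (eltComm x Z)], ¬ eltComm x Z ≤ centralizer (Z : Set G) →
        φ Z < φ (eltRepl x Z) := by
  obtain ⟨n, hn⟩ := Group.IsNilpotent.nilpotent G
  refine ⟨fun Z => ∑ i ∈ Finset.range n, Nat.card ↥(Z ⊓ Subgroup.upperCentralSeries G (i + 1)),
    fun x Z _ _ hM => ?_⟩
  set r : ℕ → ℕ := fun i =>
    (centralizer (Z : Set G)).relIndex (eltComm x Z ⊓ Subgroup.upperCentralSeries G i) with hr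
  have rpos : ∀ i, 0 < r i := fun i => Nat.pos_of_ne_zero index_ne_zero_of_finite
  have rmono : ∀ i, r i ≤ r (i + 1) := fun i => relIndex_le_of_le_right
    (inf_le_inf_left _ (Subgroup.upperCentralSeries_mono G (Nat.le_succ i))) (rpos _).ne'
  have key : ∀ i, Nat.card ↥(Z ⊓ Subgroup.upperCentralSeries G (i + 1)) * r (i + 1) ≤
      Nat.card ↥(eltRepl x Z ⊓ Subgroup.upperCentralSeries G (i + 1)) * r i := fun i =>
    card_inf_mul_le_eltRepl x Z fun u hu => by
      rw [← commutatorElement_inv]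
      exact inv_mem (Subgroup.mem_upperCentralSeries_succ_iff.1 hu x)
  refine Finset.sum_lt_sum (fun i _ => Nat.le_of_mul_le_mul_right
    ((Nat.mul_le_mul_left _ (rmono i)).trans (key i)) (rpos i)) ?_
  by_contra hc
  push Not at hc
  have : ∀ i ≤ n, r i = 1 := by
    intro i hi
    induction i with
    | zero => simp [hr]
    | succ i ih =>
      have h1 := (key i).trans (Nat.mul_le_mul_right _ (hc i (Finset.mem_range.2 hi)))
      have h2 := Nat.le_of_mul_le_mul_left h1 Nat.card_pos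
      have := ih (Nat.le_of_succ_le hi)
      have := rpos (i + 1)
      omega
  have h := this n le_rfl
  simp only [hr, hn, inf_top_eq, relIndex_eq_one] at h
  exact hM h

/-- Fixed point form: a nonempty family of abelian subgroups closed under admissible replacements has
a member on which all admissible elements act quadratically. -/
theorem exists_mem_forall_eltComm_le [Group.IsNilpotent G] (𝓕 : Set (Subgroup G))
    (hne : 𝓕.Nonempty) (hab : ∀ Z ∈ 𝓕, IsMulCommutative Z) :
    ∃ Z ∈ 𝓕, ∀ x : G, IsMulCommutative (eltComm x Z) → eltRepl x Z ∈ 𝓕 →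
      eltComm x Z ≤ centralizer (Z : Set G) := by
  obtain ⟨φ, hφ⟩ := exists_weight_lt_eltRepl G
  obtain ⟨Z, hZ, hmax⟩ := Set.exists_max_image 𝓕 φ (Set.toFinite _) hne
  refine ⟨Z, hZ, fun x hx hW => ?_⟩
  by_contra hc
  have := hab Z hZ
  exact (hmax _ hW).not_gt (hφ x Z hc)

omit [Finite G] in
theorem eltRepl_le_sup (x : G) (Z : Subgroup G) :
    eltRepl x Z ≤ Z ⊔ Z.map (MulAut.conj x).toMonoidHom :=
  sup_le (eltComm_le_iff.2 fun a ha => mul_mem (mem_sup_right ⟨a, ha, rfl⟩)
    (mem_sup_left (inv_mem ha))) (inf_le_left.trans le_sup_left)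

theorem IsMinimalCentrallyLarge.map_equiv {Q : Subgroup G} (hQ : IsMinimalCentrallyLarge Q)
    (e : G ≃* G) : IsMinimalCentrallyLarge (Q.map e.toMonoidHom) :=
  isMinimalCentrallyLarge_of_card_le hQ (IsCentrallyLarge.map_equiv hQ.1 e)
    (card_map_of_injective e.injective).le

/-- An abelian subgroup of `Z(Q) Z(R)` containing `Z(Q ∩ R)` and at least as large as `Z(Q)` is the
centre of a minimal centrally large subgroup. -/
theorem IsMinimalCentrallyLarge.replace {Q R W : Subgroup G} (hQ : IsMinimalCentrallyLarge Q)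
    (hR : IsCentrallyLarge R) [IsMulCommutative W]
    (hW : W ≤ centralizer (Q : Set G) ⊔ centralizer (R : Set G))
    (hc : Nat.card (centralizer (Q : Set G)) ≤ Nat.card W) :
    IsMinimalCentrallyLarge ((Q ⊓ R) ⊔ W) ∧ W = centralizer (((Q ⊓ R) ⊔ W : Subgroup G) : Set G) := by
  rw [← IsCentralizerLarge.centralizer_inf (IsCentrallyLarge.large hQ.1)
    (IsCentrallyLarge.large hR)] at hW
  have h1 := IsMinimalCentrallyLarge.card_mul hQ hR
  have h2 := card_mul_card_le_sup_inf (Q ⊓ R) W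
  have h3 : Nat.card ↥((Q ⊓ R) ⊓ W) ≤
      Nat.card ↥((Q ⊓ R) ⊓ centralizer ((Q ⊓ R : Subgroup G) : Set G)) :=
    card_le_of_le (inf_le_inf_left _ hW)
  have h4 : Nat.card Q ≤ Nat.card ↥((Q ⊓ R) ⊔ W) := by
    refine Nat.le_of_mul_le_mul_right ?_ (Nat.card_pos (α := ↥((Q ⊓ R) ⊓
      centralizer ((Q ⊓ R : Subgroup G) : Set G))))
    rw [h1]
    exact ((Nat.mul_le_mul_left _ hc).trans h2).trans (Nat.mul_le_mul_left _ h3)
  have hf : Nat.card Q * Nat.card (centralizer (Q : Set G)) = maxCentralizerProduct G :=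
    IsCentrallyLarge.large hQ.1
  obtain ⟨k1, k2, k3⟩ := isCentrallyLarge_of_le (R := (Q ⊓ R) ⊔ W) (Z := W)
    (le_inf le_sup_right (by rw [Core.centralizer_sup]; exact le_inf hW (le_centralizer W)))
    (hf ▸ Nat.mul_le_mul h4 hc)
  refine ⟨isMinimalCentrallyLarge_of_card_le hQ k1 ?_, k2⟩
  refine Nat.le_of_mul_le_mul_right ?_ (Nat.card_pos (α := W))
  rw [k3, ← hf]
  exact Nat.mul_le_mul_left _ hc

/-- Glauberman: some minimal centrally large subgroup is normalized by every element `x` for which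
`[x, Z(Q)]` is abelian. -/
theorem exists_minimalCentrallyLarge_normalized (G : Type*) [Group G] [Finite G]
    [Group.IsNilpotent G] : ∃ Q : Subgroup G, IsMinimalCentrallyLarge Q ∧ ∀ x : G,
      IsMulCommutative (eltComm x (centralizer (Q : Set G))) → x ∈ normalizer (Q : Set G) := by
  obtain ⟨Q₀, hQ₀⟩ := exists_isMinimalCentrallyLarge G
  obtain ⟨_, ⟨Q, hQ, rfl⟩, h⟩ := exists_mem_forall_eltComm_le
    {Z : Subgroup G | ∃ Q : Subgroup G, IsMinimalCentrallyLarge Q ∧ centralizer (Q : Set G) = Z}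
    ⟨_, Q₀, hQ₀, rfl⟩ (by rintro _ ⟨Q, hQ, rfl⟩; exact IsCentrallyLarge.centralizer_comm hQ.1)
  refine ⟨Q, hQ, fun x hx => ?_⟩
  have := IsCentrallyLarge.centralizer_comm hQ.1
  have hR := IsCentrallyLarge.map_equiv hQ.1 (MulAut.conj x)
  have hle := eltRepl_le_sup x (centralizer (Q : Set G))
  rw [Core.map_equiv_centralizer] at hle
  have := isMulCommutative_eltRepl x (centralizer (Q : Set G))
  obtain ⟨k1, k2⟩ := IsMinimalCentrallyLarge.replace hQ hR hle (card_le_card_eltRepl x _)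
  have h1 := h x hx ⟨_, k1, k2.symm⟩
  -- `M C(Q)` is abelian and lies in `Z(Q) Z(Q^x)`, so it has the order of `C(Q)`
  have h2 : IsMulCommutative (eltComm x (centralizer (Q : Set G)) ⊔ centralizer (Q : Set G) :
      Subgroup G) := isMulCommutative_sup h1
  obtain ⟨k3, k4⟩ := IsMinimalCentrallyLarge.replace hQ hR
    (sup_le (le_sup_left.trans hle) le_sup_left) (card_le_of_le le_sup_right)
  have h3 := (IsMinimalCentrallyLarge.card_eq k3 hQ).2
  rw [← k4] at h3
  have h4 := eq_of_le_of_card_ge le_sup_right h3.le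
  have h5 := mem_normalizer_of_eltComm_le (le_sup_left.trans h4.ge)
  have := Core.normalizer_le_normalizer_centralizer _ h5
  rwa [IsCentralizerLarge.centralizer_centralizer (IsCentrallyLarge.large hQ.1)] at this

theorem exists_minimalCentrallyLarge_le_normalizer (G : Type*) [Group G] [Finite G]
    [Group.IsNilpotent G] : ∃ Q : Subgroup G, IsMinimalCentrallyLarge Q ∧
      thompsonSubgroupA G ≤ normalizer (Q : Set G) ∧
        minimalCentrallyLargeJoin G ≤ normalizer (Q : Set G) := by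
  obtain ⟨Q, hQ, h⟩ := exists_minimalCentrallyLarge_normalized G
  have := IsCentrallyLarge.centralizer_comm hQ.1
  refine ⟨Q, hQ, sSup_le fun A hA x hx => h x ?_, sSup_le fun R hR => ?_⟩
  · have := hA.1
    have := ito_isMulCommutative
      (coe_sup_eq_mul_symm (IsCentrallyLarge.sup_inf_centralizer hQ.1 hA).2)
    exact isMulCommutative_of_le (eltComm_le_commutator hx _)
  · rw [← IsMinimalCentrallyLarge.inf_sup_centralizer hR hQ.1]
    refine sup_le (inf_le_right.trans le_normalizer) fun x hx => h x ?_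
    have := IsCentrallyLarge.centralizer_comm hR.1
    have := ito_isMulCommutative (IsCentralizerLarge.coe_sup
      (IsCentralizerLarge.centralizer (IsCentrallyLarge.large hR.1))
      (IsCentralizerLarge.centralizer (IsCentrallyLarge.large hQ.1)))
    exact isMulCommutative_of_le (eltComm_le_commutator hx _)

end Cfsg.Lib.Loc
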