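import Cfsg.Agent.Lib.Loc.PReduced

/-! Quadratic action of a `Y`-minimal group `L` on `O_p(L) / C_Y(L)`: the abstract part. -/

namespace Cfsg.Lib.FrakL

open Subgroup

variable {H K : Type*} [Group H] [Group K]

/-- `x` lies in a conjugate of `Z`. -/
def Cj (Z : Subgroup K) (x : K) : Prop := ∃ g, ∃ y ∈ Z, x = g * y * g⁻¹

/-- What is used about the image `Z` of `Y` in `L / O_p(L)`. -/
structure RO (p : ℕ) (Z : Subgroup K) : Prop where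
  ti : ∀ y ∈ Z, y ≠ 1 → ∀ g, g * y * g⁻¹ ∈ normalizer (Z : Set K) → g ∈ normalizer (Z : Set K)
  prod : ∀ h : K, (¬ ∃ k, h ^ p ^ k = 1) →
    ∃ u y z, Cj Z u ∧ Cj Z y ∧ Cj Z z ∧ h * u = u * h ∧ h * u = y * z
  uniq : ∀ V ≤ normalizer (Z : Set K), normalizer (Z : Set K) ≤ normalizer (V : Set K) →
    (∀ v ∈ V, v ^ p = 1) → V ≠ ⊥ → V = Z

structure Hyp (Y A : Subgroup H) : Prop where
  comm : ∀ x ∈ Y, ∀ y ∈ Y, x * y = y * x
  nA : A.Normal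
  norm : A ≤ normalizer (Y : Set H)
  clA : ∀ W : Subgroup H, W.Normal → Y ⊓ A ≤ W → A ≤ W
  clY : ∀ W : Subgroup H, W.Normal → Y ≤ W → W = ⊤
  exg : ∃ g, g ∉ normalizer (Y : Set H)
  exy : ∃ y ∈ Y, y ∉ A
  gen : ∀ y ∈ Y, y ∉ A → ∀ g ∉ normalizer (Y : Set H), ∀ X : Subgroup H, Y ≤ X →
    g * y * g⁻¹ ∈ X → X = ⊤

instance normal_inf_center (Y : Subgroup H) : (Y ⊓ center H).Normal :=
  ⟨fun n hn g => by rw [(mem_center_iff.1 hn.2 g)]; simpa using hn⟩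

/-- The elements commuting with `a` modulo `C_Y(L)`. -/
def St (Y : Subgroup H) (a : H) : Subgroup H :=
  (centralizer {QuotientGroup.mk' (Y ⊓ center H) a}).comap (QuotientGroup.mk' (Y ⊓ center H))

variable {Y A : Subgroup H}

theorem mem_St {x a : H} : x ∈ St Y a ↔ x * a * x⁻¹ * a⁻¹ ∈ Y ⊓ center H := by
  rw [St, mem_comap, mem_centralizer_singleton_iff, ← QuotientGroup.eq_one_iff,
    ← QuotientGroup.mk'_apply]
  simp only [map_mul, map_inv]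
  rw [mul_inv_eq_one, mul_inv_eq_iff_eq_mul]

theorem St_symm {x a : H} : x ∈ St Y a ↔ a ∈ St Y x := by
  simp only [St, mem_comap, mem_centralizer_singleton_iff]; exact eq_comm

theorem St_conj {x a : H} (g : H) (h : x ∈ St Y a) : g * x * g⁻¹ ∈ St Y (g * a * g⁻¹) := by
  rw [mem_St] at h ⊢
  have := (normal_inf_center Y).conj_mem _ h g
  convert this using 1; group

theorem St_of_comm {x a : H} (h : x * a = a * x) : x ∈ St Y a := by
  rw [mem_St, h]; simp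

theorem comm_mem (h : Hyp Y A) {y a : H} (hy : y ∈ Y) (ha : a ∈ A) : y * a * y⁻¹ * a⁻¹ ∈ Y ⊓ A := by
  refine ⟨?_, A.mul_mem (h.nA.conj_mem _ ha y) (A.inv_mem ha)⟩
  have := (mem_normalizer_iff.1 (h.norm ha) y⁻¹).1 (Y.inv_mem hy)
  simpa [mul_assoc] using Y.mul_mem hy this

theorem comm_mem' (h : Hyp Y A) {y a : H} (g : H) (hy : y ∈ Y) (ha : a ∈ A) :
    ∃ b ∈ Y ⊓ A, g * y * g⁻¹ * a * (g * y * g⁻¹)⁻¹ * a⁻¹ = g * b * g⁻¹ :=
  ⟨_, comm_mem h hy (h.nA.conj_mem _ ha g⁻¹), by group⟩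

theorem mem_C (h : Hyp Y A) {g x : H} (hg : g ∉ normalizer (Y : Set H)) (hx : x ∈ Y)
    (hx' : g * x * g⁻¹ ∈ Y) : g * x * g⁻¹ ∈ Y ⊓ center H := by
  obtain ⟨y, hy, hyA⟩ := h.exy
  refine ⟨hx', mem_center_iff.2 fun l => ?_⟩
  have : centralizer {g * x * g⁻¹} = ⊤ := h.gen y hy hyA g hg _
    (fun z hz => mem_centralizer_singleton_iff.2 (h.comm _ hz _ hx'))
    (mem_centralizer_singleton_iff.2 (by
      calc g * y * g⁻¹ * (g * x * g⁻¹) = g * (y * x) * g⁻¹ := by group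
        _ = g * x * g⁻¹ * (g * y * g⁻¹) := by rw [h.comm y hy x hx]; group))
  exact mem_centralizer_singleton_iff.1 (this ▸ mem_top l)

/-- `A = (Y ∩ A)(Y ∩ A)^g`. -/
theorem decomp (h : Hyp Y A) {g : H} (hg : g ∉ normalizer (Y : Set H)) {a : H} (ha : a ∈ A) :
    ∃ b ∈ Y ⊓ A, ∃ c ∈ Y ⊓ A, a = b * (g * c * g⁻¹) := by
  let W : Subgroup H :=
    { carrier := {a | ∃ b ∈ Y ⊓ A, ∃ c ∈ Y ⊓ A, a = b * (g * c * g⁻¹)}
      one_mem' := ⟨1, one_mem _, 1, one_mem _, by group⟩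
      mul_mem' := by
        rintro _ _ ⟨b, hb, c, hc, rfl⟩ ⟨b', hb', c', hc', rfl⟩
        have hd := h.nA.conj_mem _ hc.2 g
        refine ⟨b * (g * c * g⁻¹ * b' * (g * c * g⁻¹)⁻¹), mul_mem hb ⟨?_, h.nA.conj_mem _ hb'.2 _⟩,
          c * c', mul_mem hc hc', by group⟩
        exact (mem_normalizer_iff.1 (h.norm hd) _).1 hb'.1
      inv_mem' := by
        rintro _ ⟨b, hb, c, hc, rfl⟩
        have hd := A.inv_mem (h.nA.conj_mem _ hc.2 g)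
        refine ⟨(g * c * g⁻¹)⁻¹ * b⁻¹ * (g * c * g⁻¹)⁻¹⁻¹, ⟨?_, h.nA.conj_mem _ (inv_mem hb.2) _⟩,
          c⁻¹, inv_mem hc, by group⟩
        exact (mem_normalizer_iff.1 (h.norm hd) _).1 (inv_mem hb.1) }
  have hB : Y ⊓ A ≤ W := fun b hb => ⟨b, hb, 1, one_mem _, by group⟩
  have hB' : ∀ c ∈ Y ⊓ A, g * c * g⁻¹ ∈ W := fun c hc => ⟨1, one_mem _, c, hc, by group⟩
  have hWA : ∀ w ∈ W, w ∈ A := by
    rintro _ ⟨b, hb, c, hc, rfl⟩; exact mul_mem hb.2 (h.nA.conj_mem _ hc.2 g)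
  let X : Subgroup H :=
    { carrier := {x | ∀ w ∈ W, x * w * x⁻¹ ∈ W ∧ x⁻¹ * w * x ∈ W}
      one_mem' := fun w hw => by simpa using hw
      mul_mem' := fun {x y} hx hy w hw => ⟨by simpa [mul_assoc] using (hx _ (hy w hw).1).1,
        by simpa [mul_assoc] using (hy _ (hx w hw).2).2⟩
      inv_mem' := fun {x} hx w hw => ⟨by simpa using (hx w hw).2, by simpa using (hx w hw).1⟩ }
  have k1 : ∀ y ∈ Y, ∀ w ∈ W, y * w * y⁻¹ ∈ W := fun y hy w hw => by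
    simpa using W.mul_mem (hB (comm_mem h hy (hWA w hw))) hw
  have k2 : ∀ y ∈ Y, ∀ w ∈ W, g * y * g⁻¹ * w * (g * y * g⁻¹)⁻¹ ∈ W := fun y hy w hw => by
    obtain ⟨b, hb, e⟩ := comm_mem' h g hy (hWA w hw)
    have := W.mul_mem (hB' b hb) hw
    rwa [← e, inv_mul_cancel_right] at this
  obtain ⟨y, hy, hyA⟩ := h.exy
  have hX : X = ⊤ := h.gen y hy hyA g hg X
    (fun z hz w hw => ⟨k1 z hz w hw, by simpa using k1 _ (inv_mem hz) w hw⟩)
    (fun w hw => ⟨k2 y hy w hw, by simpa [mul_assoc] using k2 _ (inv_mem hy) w hw⟩)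
  exact h.clA W ⟨fun w hw x => ((hX ▸ mem_top x : x ∈ X) w hw).1⟩ hB ha

theorem le_St (h : Hyp Y A) {a a' : H} (ha : a ∈ A) (ha' : a' ∈ A) : a' ∈ St Y a := by
  obtain ⟨g, hg⟩ := h.exg
  have k : ∀ b ∈ Y ⊓ A, ∀ c ∈ Y ⊓ A, g * c * g⁻¹ ∈ St Y b := fun b hb c hc => by
    obtain ⟨d, hd, e⟩ := comm_mem' h g hc.1 hb.2
    rw [mem_St, e]
    refine mem_C h hg hd.1 ?_
    rw [← e]
    exact mul_mem ((mem_normalizer_iff.1 (h.norm (h.nA.conj_mem _ hc.2 g)) _).1 hb.1) (inv_mem hb.1)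
  obtain ⟨b, hb, c, hc, rfl⟩ := decomp h hg ha
  obtain ⟨b', hb', c', hc', rfl⟩ := decomp h hg ha'
  refine mul_mem (St_symm.2 (mul_mem (St_of_comm (h.comm _ hb.1 _ hb'.1)) (k _ hb' _ hc)))
    (St_symm.2 (mul_mem (St_symm.2 (k _ hb _ hc')) (St_conj g (St_of_comm (h.comm _ hc.1 _ hc'.1)))))

/-- `C_{A/C}(y) = (Y ∩ A)/C` for `y ∈ Y \ A`. -/
theorem mem_Y (h : Hyp Y A) {y a : H} (hy : y ∈ Y) (hyA : y ∉ A) (ha : a ∈ A) (hs : y ∈ St Y a) :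
    a ∈ Y := by
  obtain ⟨g, hg⟩ := h.exg
  obtain ⟨b, hb, c, hc, rfl⟩ := decomp h hg ha
  have h1 : y ∈ St Y (g * c * g⁻¹) := by
    have := mul_mem (St_of_comm (Y := Y) (h.comm _ (inv_mem hb.1) _ hy)) (St_symm.1 hs)
    rw [inv_mul_cancel_left] at this
    exact St_symm.1 this
  have h2 : St Y c = ⊤ := h.gen y hy hyA g⁻¹ (fun e => hg (by simpa using inv_mem e)) _
    (fun z hz => St_of_comm (h.comm _ hz _ hc.1)) (by simpa [mul_assoc] using St_conj g⁻¹ h1)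
  have h3 : centralizer {c} = ⊤ := by
    refine h.clY _ ⟨fun x hx l => ?_⟩ fun z hz => mem_centralizer_singleton_iff.2 (h.comm _ hz _ hc.1)
    have e := mem_center_iff.1 (mem_St.1 (h2 ▸ mem_top l⁻¹ : l⁻¹ ∈ St Y c)).2 x
    rw [mem_centralizer_singleton_iff] at hx ⊢
    calc l * x * l⁻¹ * c = l * (x * (l⁻¹ * c * l⁻¹⁻¹ * c⁻¹)) * c * l⁻¹ := by group
      _ = l * (l⁻¹ * c * l⁻¹⁻¹ * c⁻¹) * (x * c) * l⁻¹ := by rw [e]; group
      _ = c * (l * x * l⁻¹) := by rw [hx]; group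
  have h4 : g * c = c * g := mem_centralizer_singleton_iff.1 (h3 ▸ mem_top g)
  rw [h4, mul_inv_cancel_right]
  exact mul_mem hb.1 hc.1

/-- A product of elements of `Y \ A` from two distinct conjugates is fixed point free. -/
theorem fpf_mul (h : Hyp Y A) {y z g a : H} (hy : y ∈ Y) (hyA : y ∉ A) (hz : z ∈ Y) (hzA : z ∉ A)
    (hg : g ∉ normalizer (Y : Set H)) (ha : a ∈ A) (hs : y * (g * z * g⁻¹) ∈ St Y a) :
    a ∈ Y ⊓ center H := by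
  obtain ⟨d, hd, e⟩ := comm_mem' h g hz ha
  have h1 : g * z * g⁻¹ ∈ St Y a := by
    rw [mem_St, e]
    refine mem_C h hg hd.1 ?_
    rw [← e]
    have h2 := (mem_St.1 hs).1
    have h3 := (comm_mem h (inv_mem hy) ha).1
    have := mul_mem (mul_mem (mul_mem (inv_mem hy) h2) hy) h3
    convert this using 1; group
  have h2 : y ∈ St Y a := by have := mul_mem hs (inv_mem h1); rwa [mul_inv_cancel_right] at this
  have h3 := mem_Y h hz hzA (h.nA.conj_mem _ ha g⁻¹) (by simpa [mul_assoc] using St_conj g⁻¹ h1)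
  have := mem_C h hg h3 (by simpa [mul_assoc] using mem_Y h hy hyA ha h2)
  simpa [mul_assoc] using this

theorem fpf (h : Hyp Y A) {p : ℕ} (hY : ∀ y ∈ Y, y ^ p = 1) (hA : IsPGroup p A) (π : H →* K)
    (hπ : Function.Surjective π) (hk : π.ker = A) (hR : RO p (Y.map π)) {x a : H}
    (hx : ¬ ∃ k, x ^ p ^ k = 1) (ha : a ∈ A) (hs : x ∈ St Y a) : a ∈ Y ⊓ center H := by
  have hcj : ∀ v, Cj (Y.map π) v → ∃ g, ∃ y ∈ Y, v = π (g * y * g⁻¹) := by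
    rintro _ ⟨g, _, ⟨y, hy, rfl⟩, rfl⟩
    obtain ⟨g, rfl⟩ := hπ g
    exact ⟨g, y, hy, by simp⟩
  have hker : ∀ {s t : H}, π s = π t → s * t⁻¹ ∈ A := fun e => by
    rw [← hk, MonoidHom.mem_ker, map_mul, e, map_inv, mul_inv_cancel]
  have hx' : ¬ ∃ k, π x ^ p ^ k = 1 := by
    rintro ⟨k, e⟩
    rw [← map_pow, ← MonoidHom.mem_ker, hk] at e
    obtain ⟨j, ej⟩ := hA ⟨_, e⟩
    exact hx ⟨k + j, by rw [pow_add, pow_mul]; exact congrArg Subtype.val ej⟩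
  obtain ⟨u, y, z, hu0, hy0, hz0, e1, e2⟩ := hR.prod _ hx'
  obtain ⟨f, u, hu, rfl⟩ := hcj _ hu0
  obtain ⟨g, y, hy, rfl⟩ := hcj _ hy0
  obtain ⟨l, z, hz, rfl⟩ := hcj _ hz0
  have hp : ∀ f : H, ∀ u ∈ Y, π (f * u * f⁻¹) ^ p = 1 := fun f u hu => by
    rw [← map_pow, conj_pow, hY u hu]; simp
  have hnp : ∀ f' : H, ∀ u' ∈ Y, π x * π (f * u * f⁻¹) ≠ π (f' * u' * f'⁻¹) := fun f' u' hu' e =>
    hx' ⟨1, by
      have := hp f' u' hu'
      rwa [← e, Commute.mul_pow e1, hp f u hu, mul_one, ← pow_one p] at this⟩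
  have hone : ∀ f : H, ∀ u ∈ A, π (f * u * f⁻¹) = 1 := fun f u hu => by
    rw [← MonoidHom.mem_ker, hk]; exact h.nA.conj_mem _ hu f
  have key : ∀ a ∈ A, x * (f * u * f⁻¹) ∈ St Y a → a ∈ Y ⊓ center H := fun a ha hs => by
    have h1 : g * y * g⁻¹ * (l * z * l⁻¹) ∈ St Y a := by
      have := mul_mem (inv_mem (le_St h ha (hker (by rw [map_mul, map_mul π (g * y * g⁻¹), e2]) :
        x * (f * u * f⁻¹) * (g * y * g⁻¹ * (l * z * l⁻¹))⁻¹ ∈ A))) hs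
      convert this using 1; group
    have h2 := fpf_mul h hy (fun e => hnp l z hz (by rw [e2, hone g y e, one_mul])) hz
      (fun e => hnp g y hy (by rw [e2, hone l z e, mul_one])) (g := g⁻¹ * l)
      (fun e => hnp g _ (mul_mem hy ((mem_normalizer_iff.1 e z).1 hz))
        (by rw [e2, ← map_mul]; congr 1; group))
      (h.nA.conj_mem _ ha g⁻¹) (by have := St_conj g⁻¹ h1; convert this using 1; group)
    simpa [mul_assoc] using (normal_inf_center Y).conj_mem _ h2 g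
  set v := f * u * f⁻¹ with hv
  obtain ⟨d, hd, e⟩ := comm_mem' h f hu ha
  have h1 : x ∈ St Y (v * a * v⁻¹) := by
    have h2 : v⁻¹ * x * v * x⁻¹ ∈ A := hker (by rw [map_mul, map_mul, mul_assoc, e1]; simp)
    have := St_conj v (mul_mem (le_St h ha h2) hs)
    simpa [mul_assoc] using this
  have h2 : x ∈ St Y (v * a * v⁻¹ * a⁻¹) := St_symm.1 (mul_mem (St_symm.1 h1) (inv_mem (St_symm.1 hs)))
  have h3 : v ∈ St Y (v * a * v⁻¹ * a⁻¹) := by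
    rw [e]; exact St_conj f (St_of_comm (h.comm _ hu _ hd.1))
  have h4 := key _ (mul_mem (h.nA.conj_mem _ ha v) (inv_mem ha)) (mul_mem h2 h3)
  exact key a ha (mul_mem hs (mem_St.2 h4))

end Cfsg.Lib.FrakL
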