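import Cfsg.Agent.Lib.Loc.FrakL
import Cfsg.Agent.Lib.CharDeg.SL2Sylow
import Cfsg.Agent.Lib.Sz.Classes
import Cfsg.Agent.Lib.Sz.Instances

/-! The rank one facts `RO` for `SL₂(q)`, `Sz(q)` and dihedral groups of order `2r`. -/

namespace Cfsg.Lib.FrakL

open Subgroup Matrix Cfsg.Lib.PSL2 Cfsg.Lib.GLTwo
open scoped MatrixGroups

variable {K K' : Type*} [Group K] [Group K']

theorem Cj.conj {Z : Subgroup K} {x : K} (h : Cj Z x) (g : K) : Cj Z (g * x * g⁻¹) := by
  obtain ⟨f, y, hy, rfl⟩ := h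
  exact ⟨g * f, y, hy, by group⟩

theorem Cj.of_mem {Z : Subgroup K} {x : K} (h : x ∈ Z) : Cj Z x := ⟨1, x, h, by group⟩

theorem RO.comap {p : ℕ} {Z : Subgroup K'} (h : RO p Z) (e : K ≃* K') :
    RO p (Z.comap e.toMonoidHom) := by
  have hN : ∀ (V : Subgroup K') g, g ∈ normalizer (V.comap e.toMonoidHom : Set K) ↔
      e g ∈ normalizer (V : Set K') := fun V g => by
    rw [← comap_normalizer_eq_of_surjective V (f := e.toMonoidHom) e.surjective]; rfl
  have hC : ∀ x, Cj Z x → Cj (Z.comap e.toMonoidHom) (e.symm x) := by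
    rintro _ ⟨g, y, hy, rfl⟩
    exact ⟨e.symm g, e.symm y, by simpa using hy, by simp⟩
  refine ⟨fun y hy h1 g hg => (hN _ _).2 (h.ti (e y) hy (by simpa using h1) _
    (by simpa using (hN _ _).1 hg)), fun x hx => ?_, fun V h1 h2 h3 h4 => ?_⟩
  · obtain ⟨u, y, z, hu, hy, hz, e1, e2⟩ := h.prod (e x) (by simpa [← map_pow] using hx)
    exact ⟨_, _, _, hC _ hu, hC _ hy, hC _ hz, e.injective (by simpa using e1),
      e.injective (by simpa using e2)⟩
  · have hV : V = (V.map e.toMonoidHom).comap e.toMonoidHom :=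
      (comap_map_eq_self_of_injective (f := e.toMonoidHom) e.injective V).symm
    rw [hV, h.uniq (V.map e.toMonoidHom) ?_ ?_ ?_ ?_]
    · rintro _ ⟨v, hv, rfl⟩; exact (hN _ _).1 (h1 hv)
    · intro g hg
      obtain ⟨g, rfl⟩ := e.surjective g
      exact (hN _ _).1 (hV ▸ h2 ((hN _ _).2 hg))
    · rintro _ ⟨v, hv, rfl⟩; rw [← map_pow, h3 v hv, map_one]
    · rwa [Ne, map_eq_bot_iff_of_injective (f := e.toMonoidHom) _ e.injective]

section SL

variable {F : Type*} [Field F]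

/-- The upper unitriangular matrices. -/
def UT (F : Type*) [Field F] : Subgroup SL(2, F) where
  carrier := {g | ∃ b, g = upper b}
  one_mem' := ⟨0, upper_zero.symm⟩
  mul_mem' := by rintro _ _ ⟨b, rfl⟩ ⟨c, rfl⟩; exact ⟨_, upper_mul b c⟩
  inv_mem' := by
    rintro _ ⟨b, rfl⟩
    exact ⟨-b, inv_eq_of_mul_eq_one_right (by rw [upper_mul, add_neg_cancel, upper_zero])⟩

theorem card_UT : Nat.card (UT F) = Nat.card F := by
  refine (Nat.card_eq_of_bijective (fun b : F => (⟨upper b, b, rfl⟩ : UT F)) ⟨fun b c e => ?_, ?_⟩).symm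
  · simpa using congrArg (fun g : UT F => (g : SL(2, F)) 0 1) e
  · rintro ⟨_, b, rfl⟩; exact ⟨b, rfl⟩

theorem conj_upper_apply (g : SL(2, F)) (x : F) : (g * upper x * g⁻¹) 1 0 = -(g 1 0 ^ 2 * x) := by
  simp [SpecialLinearGroup.coe_inv, adjugate_fin_two, Matrix.mul_apply, Fin.sum_univ_two]
  ring

theorem conj_upper {g : SL(2, F)} (h : g 1 0 = 0) (x : F) :
    g * upper x * g⁻¹ = upper (g 0 0 ^ 2 * x) := by
  have hd := sl_det g
  rw [mul_inv_eq_iff_eq_mul]
  apply sl_ext <;> simp [sl_mul_apply, h]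
  rw [h] at hd
  linear_combination (-(g 0 0 * x)) * hd

theorem mem_norm_UT {g : SL(2, F)} : g ∈ normalizer (UT F : Set SL(2, F)) ↔ g 1 0 = 0 := by
  constructor
  · intro h
    obtain ⟨b, e⟩ := (mem_normalizer_iff.1 h (upper 1)).1 ⟨1, rfl⟩
    have := conj_upper_apply g 1
    rw [e] at this
    simpa using this
  · intro h
    have h' : g⁻¹ 1 0 = 0 := by
      simpa [SpecialLinearGroup.coe_inv, adjugate_fin_two] using h
    refine mem_normalizer_iff.2 fun x => ⟨?_, ?_⟩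
    · rintro ⟨b, rfl⟩; exact ⟨_, conj_upper h b⟩
    · rintro ⟨b, e⟩
      exact ⟨_, by rw [← conj_upper h' b, ← e]; group⟩

theorem mem_UT_of_pow (p : ℕ) [Fact p.Prime] [CharP F p] {g : SL(2, F)} (h : g 1 0 = 0)
    (hp : g ^ p = 1) : g ∈ UT F := by
  have k : ∀ n : ℕ, (g ^ n) 0 0 = g 0 0 ^ n ∧ (g ^ n) 1 0 = 0 := fun n => by
    induction n with
    | zero => simp
    | succ n ih => simp [pow_succ, sl_mul_apply, h, ih.1, ih.2]
  have h1 : g 0 0 = 1 := by
    have := (k p).1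
    rw [hp] at this
    exact frobenius_inj F p (by simpa [frobenius_def] using this.symm)
  have hd := sl_det g
  rw [h, h1] at hd
  exact ⟨_, eq_upper h1 (by simpa using hd) h⟩

theorem exists_sl (a b c d : F) (h : a * d - b * c = 1) :
    ∃ g : SL(2, F), g 0 0 = a ∧ g 0 1 = b ∧ g 1 0 = c ∧ g 1 1 = d :=
  ⟨⟨!![a, b; c, d], by simp [det_fin_two, h]⟩, rfl, rfl, rfl, rfl⟩

theorem cj_of_trace {s : SL(2, F)} (hc : s 1 0 ≠ 0) (ht : s 0 0 + s 1 1 = 2) : Cj (UT F) s := by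
  have hd := sl_det s
  obtain ⟨g, g1, g2, g3, g4⟩ := exists_sl ((s 0 0 - 1) / s 1 0) (-1) 1 0 (by simp)
  refine ⟨g, upper (-s 1 0), ⟨_, rfl⟩, ?_⟩
  rw [eq_mul_inv_iff_mul_eq]
  apply sl_ext <;> simp [sl_mul_apply, g1, g2, g3, g4]
  · field_simp
    linear_combination -hd + s 0 0 * ht
  · field_simp; ring
  · field_simp
    linear_combination ht

theorem prod_of_ne {h : SL(2, F)} (hc : h 1 0 ≠ 0) :
    ∃ y z, Cj (UT F) y ∧ Cj (UT F) z ∧ h = y * z := by
  refine ⟨upper ((h 0 0 + h 1 1 - 2) / h 1 0), upper (-((h 0 0 + h 1 1 - 2) / h 1 0)) * h,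
    Cj.of_mem ⟨_, rfl⟩, cj_of_trace (by simpa [sl_mul_apply] using hc) ?_, ?_⟩
  · simp [sl_mul_apply]; field_simp; ring
  · rw [← mul_assoc, upper_mul, add_neg_cancel, upper_zero, one_mul]

theorem prod_of_conj {h : SL(2, F)} (g : SL(2, F)) (hc : (g * h * g⁻¹) 1 0 ≠ 0) :
    ∃ u y z, Cj (UT F) u ∧ Cj (UT F) y ∧ Cj (UT F) z ∧ h * u = u * h ∧ h * u = y * z := by
  obtain ⟨y, z, hy, hz, e⟩ := prod_of_ne hc
  refine ⟨1, _, _, Cj.of_mem (one_mem _), hy.conj g⁻¹, hz.conj g⁻¹, by simp, ?_⟩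
  calc h * 1 = g⁻¹ * (g * h * g⁻¹) * g := by group
    _ = _ := by rw [e]; group

theorem ro_UT (p : ℕ) [hp : Fact p.Prime] [CharP F p] [Finite F] : RO p (UT F) := by
  refine ⟨?_, fun h _ => ?_, fun V h1 h2 h3 h4 => ?_⟩
  · rintro _ ⟨x, rfl⟩ h1 g hg
    rw [mem_norm_UT, conj_upper_apply] at hg
    have hx : x ≠ 0 := fun e => h1 (upper_eq_one_iff.2 e)
    exact mem_norm_UT.2 (by simpa [hx] using hg)
  · by_cases hc : h 1 0 = 0
    swap
    · exact prod_of_conj 1 (by simpa using hc)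
    by_cases hb : h 0 1 = 0
    swap
    · obtain ⟨g, g1, g2, g3, g4⟩ := exists_sl (0 : F) (-1) 1 0 (by simp)
      exact prod_of_conj g (by simpa [sl_mul_apply, sl_inv_apply, g1, g2, g3, g4] using hb)
    obtain ⟨u, g1, g2, g3, g4⟩ := exists_sl (1 : F) 0 1 1 (by simp)
    by_cases ha : h 0 0 = h 1 1
    swap
    · exact prod_of_conj u (by simpa [sl_mul_apply, sl_inv_apply, g1, g2, g3, g4, hb, hc,
        ← sub_eq_add_neg, sub_eq_zero] using ha)
    have hd := sl_det h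
    obtain ⟨y, z, hy, hz, e⟩ := prod_of_ne (h := h * u) (by
      simp only [sl_mul_apply, hc, g1, g3]
      intro e
      simp at e
      simp [e, hb] at hd)
    refine ⟨u, y, z, cj_of_trace (by simp [g3]) (by rw [g1, g4]; norm_num), hy, hz, ?_, e⟩
    apply sl_ext <;> simp [sl_mul_apply, g1, g2, g3, g4, ha, hb, hc]
  · have hV : V ≤ UT F := fun v hv => mem_UT_of_pow p (mem_norm_UT.1 (h1 hv)) (h3 v hv)
    obtain ⟨⟨v, hv⟩, hv1⟩ := ne_bot_iff_exists_ne_one.1 h4
    obtain ⟨b, rfl⟩ := hV hv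
    have hb : b ≠ 0 := fun e => hv1 (Subtype.ext (upper_eq_one_iff.2 e))
    have k : ∀ a : F, upper (a ^ 2 * b) ∈ V := fun a => by
      by_cases ha : a = 0
      · simp [ha, upper_zero, one_mem]
      obtain ⟨g, g1, -, g3, -⟩ := exists_sl a 0 0 a⁻¹ (by simp [ha])
      have := (mem_normalizer_iff.1 (h2 (mem_norm_UT.2 g3)) _).1 hv
      rwa [conj_upper g3, g1] at this
    refine le_antisymm hV ?_
    rintro _ ⟨x, rfl⟩
    by_cases h2 : ringChar F = 2
    · obtain ⟨a, e⟩ := FiniteField.isSquare_of_char_two h2 (x / b)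
      have := k a
      rwa [sq, ← e, div_mul_cancel₀ _ hb] at this
    · have h2' : (2 : F) ≠ 0 := Ring.two_ne_zero h2
      have := mul_mem (k ((x / b + 1) / 2)) (inv_mem (k ((x / b - 1) / 2)))
      convert this using 1
      rw [eq_mul_inv_iff_mul_eq, upper_mul]
      congr 1
      field_simp
      ring

theorem ro_SL {p : ℕ} [hp : Fact p.Prime] [Fintype F] {Z : Subgroup SL(2, F)}
    (hc : ∀ x ∈ Z, ∀ y ∈ Z, x * y = y * x) (he : ∀ x ∈ Z, x ^ p = 1)
    (hq : Nat.card Z = Fintype.card F) : RO p Z := by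
  have hP : IsPGroup p Z := fun x => ⟨1, Subtype.ext (by simpa using he _ x.2)⟩
  obtain ⟨n, hn⟩ := IsPGroup.iff_card.1 hP
  haveI : CharP F p := charP_of_card_eq_prime_pow (hq.symm.trans hn)
  have h1 : Z ≠ ⊥ := fun e => by
    have := Fintype.one_lt_card (α := F)
    rw [← hq, e, card_bot] at this
    exact lt_irrefl _ this
  obtain ⟨⟨y, hy⟩, hy1⟩ := ne_bot_iff_exists_ne_one.1 h1
  obtain ⟨x, hx, e⟩ := exists_isConj_upper p (orderOf_eq_prime (he y hy) fun e => hy1 (Subtype.ext e))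
  obtain ⟨c, e⟩ := isConj_iff.1 e
  have : Z = (UT F).comap (MulAut.conj c).toMonoidHom := by
    refine eq_of_le_of_card_ge (fun z hz => mem_UT_of_pow p ?_ ?_) ?_
    · refine ((centralizer_upper hx).1 (mem_centralizer_singleton_iff.2 ?_)).1
      rw [← e, ← MulAut.conj_apply, MulEquiv.coe_toMonoidHom, ← map_mul, ← map_mul, hc z hz y hy]
    · rw [← map_pow, he z hz, map_one]
    · rw [hq, comap_equiv_eq_map_symm', card_map_of_injective (MulEquiv.injective _), card_UT,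
        Nat.card_eq_fintype_card]
  rw [this]
  exact (ro_UT p).comap _

end SL

section Sz

open Cfsg.Lib.Sz

variable {F : Type*} [Field F] [Finite F] (M : Model F K)

theorem isTorus_ell {m : ℕ} (hq : Nat.card F = 2 ^ (2 * m + 1)) {g : K} (hg : M.Ell g) :
    IsTorus (centralizer {g}) 4 := by
  rcases Nat.eq_zero_or_pos m with rfl | hm
  swap
  · exact hg.isTorus hm hq
  haveI := M.finite
  haveI : Fact (Nat.Prime 5) := ⟨by norm_num⟩
  have h1 : centralizer {g} ≠ ⊥ := fun e =>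
    hg.ne_one (mem_bot.1 (e ▸ mem_centralizer_singleton_iff.2 rfl))
  have hG : Nat.card K = 20 := by rw [M.card_G, hq]; norm_num
  have h5 : Nat.card (centralizer ({g} : Set K)) = 5 := by
    have := hg.card_centralizer_dvd
    rw [hq] at this
    exact ((Nat.dvd_prime (by norm_num)).1 this).resolve_left fun e => h1 (card_eq_one.1 e)
  refine ⟨h1, hg.isCyclic, by rw [h5]; decide, fun a ha h => hg.centralizer_eq ha h, ?_, Or.inr rfl⟩
  have hi : (centralizer ({g} : Set K)).index = 4 := by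
    have := (centralizer ({g} : Set K)).card_mul_index
    rw [h5, hG] at this
    omega
  let P : Sylow 5 K := (IsPGroup.of_card (n := 1) (by simpa using h5)).toSylow (by rw [hi]; decide)
  have h2 : Nat.card (Sylow 5 K) ∣ 4 := hi ▸ P.card_dvd_index
  have h3 := card_sylow_modEq_one 5 K
  have h4 : Nat.card (Sylow 5 K) = 1 := by
    have := Nat.le_of_dvd (by norm_num) h2
    unfold Nat.ModEq at h3
    omega
  have h6 : (normalizer (centralizer ({g} : Set K) : Set K)).index = 1 := by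
    rw [← h4, P.card_eq_index_normalizer]; rfl
  rw [index_eq_one.1 h6, card_top, hG, h5]

theorem ro_Z {m : ℕ} (hq : Nat.card F = 2 ^ (2 * m + 1)) : RO 2 M.Z := by
  have h1 : M.u 0 1 ≠ 1 := fun e => one_ne_zero (M.u_eq_one.1 e).2
  have hC : ∀ s : K, s * s = 1 → Cj M.Z s := fun s hs => by
    by_cases e : s = 1
    · exact e ▸ Cj.of_mem (one_mem _)
    obtain ⟨c, e⟩ := isConj_iff.1 (M.isConj_of_sq (M.u_zero_sq 1) h1 hs e)
    exact ⟨c, _, M.u_mem_Z 1, e.symm⟩
  have hP : ∀ h s : K, s * s = 1 → s * h * s⁻¹ = h⁻¹ →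
      ∃ u y z, Cj M.Z u ∧ Cj M.Z y ∧ Cj M.Z z ∧ h * u = u * h ∧ h * u = y * z := fun h s hs e =>
    ⟨1, s, s * h, Cj.of_mem (one_mem _), hC s hs, hC _ (by
      calc s * h * (s * h) = s * h * s⁻¹ * (s * s) * h := by group
        _ = 1 := by rw [e, hs]; group), by simp, by rw [← mul_assoc, hs]; simp⟩
  refine ⟨fun y hy h1 g hg => ?_, fun h hh => ?_, fun V h1 h2 h3 h4 => ?_⟩
  · rw [M.normalizer_Z] at hg ⊢
    exact M.mem_B_of_conj (M.Z_le_U hy) h1 hg
  · rcases M.trichotomy h with ⟨p, hp⟩ | ⟨x, μ, rfl⟩ | hg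
    · exact (hh ⟨2, (M.mem_Up.1 hp).2⟩).elim
    · refine hP _ (x * (M.h 1 * M.w) * x⁻¹) ?_ ?_
      · rw [conj_mul, M.h_mul_w_sq]; simp
      · rw [conj_inv, conj_inv, ← M.h_mul_w_conj_h 1 μ]; group
    · have T := isTorus_ell M hq hg
      obtain ⟨z, hz, h2, h1⟩ := M.exists_sq_mem_normalizer T
      exact hP _ z h2 (T.inverts hz h2 h1 (mem_centralizer_singleton_iff.2 rfl))
  · rw [M.normalizer_Z] at h1 h2
    have hV : V ≤ M.Z := fun v hv => M.mem_Z_iff.2 ⟨M.mem_B.1 (h1 hv), by rw [← sq, h3 v hv]⟩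
    obtain ⟨⟨v, hv⟩, hv1⟩ := ne_bot_iff_exists_ne_one.1 h4
    obtain ⟨b, rfl⟩ := M.mem_Z.1 (hV hv)
    have hb : b ≠ 0 := fun e => hv1 (Subtype.ext (M.u_eq_one.2 ⟨rfl, e⟩))
    refine le_antisymm hV fun z hz => ?_
    obtain ⟨d, rfl⟩ := M.mem_Z.1 hz
    by_cases hd : d = 0
    · rw [M.u_eq_one.2 ⟨rfl, hd⟩]; exact one_mem _
    obtain ⟨x, e⟩ := (Finite.injective_iff_surjective.1
      (fun x y h => M.toTits.σ_mul_sq_inj h : Function.Injective fun x => M.σ x * x ^ 2)) (d / b)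
    simp only at e
    have hx : x ≠ 0 := fun e' => by
      rw [e'] at e
      exact div_ne_zero hd hb (by simpa using e.symm)
    have := (mem_normalizer_iff.1 (h2 (M.h_mem_B (Units.mk0 x hx))) _).1 hv
    rwa [M.h_conj_u, Units.val_mk0, e, mul_zero, div_mul_cancel₀ _ hb] at this

include M in
theorem ro_Sz {m : ℕ} (hq : Nat.card F = 2 ^ (2 * m + 1)) {Z : Subgroup K}
    (hc : ∀ x ∈ Z, ∀ y ∈ Z, x * y = y * x) (he : ∀ x ∈ Z, x ^ 2 = 1)
    (hZ : Nat.card Z = Nat.card F) : RO 2 Z := by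
  haveI := M.finite
  have h1 : Z ≠ ⊥ := fun e => by
    have := Model.two_le_card (F := F)
    rw [← hZ, e, card_bot] at this
    omega
  obtain ⟨⟨y, hy⟩, hy1⟩ := ne_bot_iff_exists_ne_one.1 h1
  obtain ⟨x, hx⟩ := M.exists_mem_conj_U (g := y) (by rw [show 4 = 2 * 2 from rfl, pow_mul, he y hy, one_pow])
  have : Z = (M.conj x).Z := eq_of_le_of_card_ge (fun z hz => (M.conj x).mem_Z_iff.2
    ⟨((M.conj x).mem_U_iff.1 ((M.conj x).mem_U_of_commute hx (fun e => hy1 (Subtype.ext e))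
      (hc z hz y hy))).1, by rw [← sq, he z hz]⟩) (by rw [Model.card_Z, hZ])
  rw [this]
  exact ro_Z _ hq

end Sz

open DihedralGroup in
theorem ro_D {n : ℕ} (hn : n.Prime) (h2 : n ≠ 2) {Z : Subgroup (DihedralGroup n)} (h1 : Z ≠ ⊥)
    (hc : ∀ x ∈ Z, ∀ y ∈ Z, x * y = y * x) (he : ∀ x ∈ Z, x ^ 2 = 1) : RO 2 Z := by
  haveI := Fact.mk hn
  have t2 : (2 : ZMod n) ≠ 0 := fun e => h2 ((Nat.prime_dvd_prime_iff_eq hn Nat.prime_two).1
    ((ZMod.natCast_eq_zero_iff 2 n).1 (by simpa using e)))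
  have cent : ∀ i g, g * sr i = sr i * g → g = (1 : DihedralGroup n) ∨ g = sr i := by
    rintro i (j | j) e
    · left
      have : i - j = i + j := by simpa using e
      rw [one_def, (mul_eq_zero.1 (by linear_combination -this : 2 * j = 0)).resolve_left t2]
    · right
      have : i - j = j - i := by simpa using e
      rw [mul_left_cancel₀ t2 (by linear_combination -this : 2 * j = 2 * i)]
  obtain ⟨i, hi⟩ : ∃ i, sr i ∈ Z := by
    obtain ⟨⟨y, hy⟩, hy1⟩ := ne_bot_iff_exists_ne_one.1 h1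
    rcases y with j | j
    · have : j + j = 0 := by
        have := he _ hy
        rwa [sq, r_mul_r, one_def, r.injEq] at this
      refine (hy1 (Subtype.ext (?_ : r j = 1))).elim
      rw [(mul_eq_zero.1 (by linear_combination this : 2 * j = 0)).resolve_left t2]; rfl
    · exact ⟨j, hy⟩
  have s1 : ∀ j, sr j ≠ (1 : DihedralGroup n) := fun j e => by rw [one_def] at e; cases e
  have hN : ∀ g ∈ normalizer (Z : Set (DihedralGroup n)), g = 1 ∨ g = sr i := fun g hg => by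
    have := (mem_normalizer_iff.1 hg _).1 hi
    rcases cent i _ (hc _ this _ hi) with e | e
    · exact (s1 i (by simpa using e)).elim
    · exact cent i g (mul_inv_eq_iff_eq_mul.1 e)
  have hC : ∀ j, Cj Z (sr j) := fun j => ⟨r ((i - j) / 2), _, hi, by
    simp only [inv_r, r_mul_sr, sr_mul_r, sr.injEq]; field_simp; ring⟩
  refine ⟨fun y hy h1 g hg => ?_, ?_, fun V h1 _ _ h4 => ?_⟩
  · obtain rfl := (hN y (le_normalizer hy)).resolve_left h1
    rcases hN _ hg with e | e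
    · exact (h1 (by simpa using e)).elim
    · rcases cent i g (mul_inv_eq_iff_eq_mul.1 e) with rfl | rfl
      · exact one_mem _
      · exact le_normalizer hi
  · rintro (j | j) hh
    · exact ⟨1, sr 0, sr j, Cj.of_mem (one_mem _), hC 0, hC j, by simp, by simp⟩
    · exact (hh ⟨1, by simp [sq]⟩).elim
  · obtain ⟨⟨v, hv⟩, hv1⟩ := ne_bot_iff_exists_ne_one.1 h4
    obtain rfl := (hN v (h1 hv)).resolve_left fun e => hv1 (Subtype.ext e)
    refine le_antisymm (fun w hw => ?_) fun w hw => ?_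
    · rcases hN w (h1 hw) with rfl | rfl
      exacts [one_mem _, hi]
    · rcases hN w (le_normalizer hw) with rfl | rfl
      exacts [one_mem _, hv]

end Cfsg.Lib.FrakL
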