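import Cfsg.Agent.Lib.Loc.FrakL2

/-! Members of `𝔏_G(Y_M)` satisfy the hypotheses `Hyp` and `RO`. -/

namespace Cfsg.Lib.FrakL

open Subgroup Cfsg.Lib.Loc Cfsg.Lib.Core

variable {G : Type*} [Group G] [Finite G] {p : ℕ} [hp : Fact p.Prime] {M L : Subgroup G}

theorem Y_comm (M : Subgroup G) : ∀ x ∈ largestPReducedOf p M, ∀ y ∈ largestPReducedOf p M,
    x * y = y * x := fun x hx y hy => by
  haveI := (pRed_Y p M).elemAb.1
  exact congrArg Subtype.val (mul_comm' (⟨x, hx⟩ : largestPReducedOf p M) ⟨y, hy⟩)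

theorem ro_of (hL : IsInFrakL p M L) (hY : ¬ (largestPReducedOf p M).subgroupOf L ≤ pCore p L) :
    RO p (((largestPReducedOf p M).subgroupOf L).map (QuotientGroup.mk' (pCore p L))) := by
  set Z := ((largestPReducedOf p M).subgroupOf L).map (QuotientGroup.mk' (pCore p L)) with hZ
  have hc : ∀ {K : Type} [Group K] (e : (L ⧸ pCore p L) ≃* K), ∀ x ∈ Z.map e.toMonoidHom,
      ∀ y ∈ Z.map e.toMonoidHom, x * y = y * x := by
    rintro K _ e _ ⟨_, ⟨x, hx, rfl⟩, rfl⟩ _ ⟨_, ⟨y, hy, rfl⟩, rfl⟩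
    simp only [← map_mul]
    rw [show x * y = y * x from Subtype.ext (Y_comm M _ hx _ hy)]
  have he : ∀ {K : Type} [Group K] (e : (L ⧸ pCore p L) ≃* K), ∀ x ∈ Z.map e.toMonoidHom,
      x ^ p = 1 := by
    rintro K _ e _ ⟨_, ⟨x, hx, rfl⟩, rfl⟩
    simp only [← map_pow]
    rw [show x ^ p = 1 from Subtype.ext ((pRed_Y p M).elemAb.2 _ hx), map_one, map_one]
  have hq : ∀ {K : Type} [Group K] (e : (L ⧸ pCore p L) ≃* K), Nat.card (Z.map e.toMonoidHom) =
      (largestPReducedOf p M ⊓ pCoreOf p L).relIndex (largestPReducedOf p M) := fun e => by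
    rw [card_map_of_injective (f := e.toMonoidHom) e.injective, hZ, ← relIndex_ker,
      QuotientGroup.ker_mk', inf_relIndex_left, ← relIndex_subgroupOf hL.1]
    congr 1
    exact (comap_map_eq_self_of_injective L.subtype_injective _).symm
  have back : ∀ {K : Type} [Group K] (e : (L ⧸ pCore p L) ≃* K), RO p (Z.map e.toMonoidHom) →
      RO p Z := fun e h => by
    have := h.comap e
    rwa [comap_map_eq_self_of_injective (f := e.toMonoidHom) e.injective] at this
  rcases hL.2.2.2.2.2.2 with ⟨F, _, _, h1, ⟨e⟩⟩ | ⟨rfl, F, _, _, m, h0, h1, ⟨e⟩⟩ | ⟨rfl, r, h0, h1, ⟨e⟩⟩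
  · exact back e (ro_SL (hc e) (he e) ((hq e).trans h1.symm))
  · exact back e (ro_Sz (Sz.lieModel h0) (Nat.card_eq_fintype_card.trans h0) (hc e) (he e)
      ((hq e).trans (h1.symm.trans Nat.card_eq_fintype_card.symm)))
  · refine back e (ro_D h0 h1 ?_ (hc e) (he e))
    rwa [Ne, map_eq_bot_iff_of_injective (f := e.toMonoidHom) _ e.injective, hZ, Subgroup.map_eq_bot_iff,
      QuotientGroup.ker_mk']

theorem setup (hL : IsInFrakL p M L) :
    Hyp ((largestPReducedOf p M).subgroupOf L) (pCore p L) ∧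
    RO p (((largestPReducedOf p M).subgroupOf L).map (QuotientGroup.mk' (pCore p L))) ∧
    ∀ g : L, QuotientGroup.mk' (pCore p L) g ∈ normalizer
      ((((largestPReducedOf p M).subgroupOf L).map (QuotientGroup.mk' (pCore p L)) :
        Subgroup (L ⧸ pCore p L)) : Set (L ⧸ pCore p L)) →
      (g : G) ∈ normalizer (largestPReducedOf p M : Set G) := by
  have hR := ro_of hL
  obtain ⟨h1, h2, h3, ⟨h4, -⟩, -, ⟨h5, h6⟩, -⟩ := hL
  set Y := largestPReducedOf p M with hY
  have hN : ∀ g : L, g ∈ normalizer (Y.subgroupOf L : Set L) ↔ (g : G) ∈ normalizer (Y : Set G) :=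
    fun g => by rw [← subgroupOf_normalizer_eq h1]; rfl
  have clY : ∀ W : Subgroup L, W.Normal → Y.subgroupOf L ≤ W → W = ⊤ := fun W _ h =>
    top_le_iff.1 (h4 ▸ normalClosure_le_normal h)
  have exg : ∃ g : L, (g : G) ∉ normalizer (Y : Set G) := by
    obtain ⟨g, hg, hg'⟩ := SetLike.exists_of_lt h5
    exact ⟨⟨g, hg⟩, fun e => hg' ⟨hg, e⟩⟩
  have hYA : ¬ Y.subgroupOf L ≤ pCore p L := fun h => by
    obtain ⟨g, hg⟩ := exg
    exact hg (h3 ⟨g, clY _ inferInstance h ▸ mem_top g, rfl⟩)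
  have mx : ∀ X : Subgroup L, Y.subgroupOf L ≤ X → X ≠ ⊤ → ∀ g ∈ X,
      (g : G) ∈ normalizer (Y : Set G) := fun X h hX g hg => by
    refine (h6 (X.map L.subtype) (fun y hy => ⟨⟨y, h1 hy⟩, h hy, rfl⟩)
      (lt_of_le_of_ne (map_subtype_le X) fun e => hX (eq_top_iff.2 fun l _ => ?_)) ⟨g, hg, rfl⟩).2
    obtain ⟨l', hl, e'⟩ : (l : G) ∈ X.map L.subtype := e.symm ▸ l.2
    rwa [← show l' = l from Subtype.ext e']
  set π := QuotientGroup.mk' (pCore p L) with hπ
  have nrm : ∀ g : L, π g ∈ normalizer (((Y.subgroupOf L).map π : Subgroup _) : Set (L ⧸ pCore p L)) →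
      (g : G) ∈ normalizer (Y : Set G) := by
    refine mx ((normalizer _).comap π) (fun y hy => le_normalizer ⟨y, hy, rfl⟩) fun e => hYA ?_
    haveI : ((Y.subgroupOf L).map π).Normal := normalizer_eq_top_iff.1 (eq_top_iff.2 fun x _ => by
      obtain ⟨x, rfl⟩ := QuotientGroup.mk'_surjective _ x
      exact (e ▸ mem_top x : x ∈ (normalizer _).comap π))
    refine (le_comap_map π _).trans (le_pCore inferInstance ?_)
    exact IsPGroup.comap_of_ker_isPGroup (((pRed_Y p M).isPGroup.comap_subtype).map π) π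
      (by rw [hπ, QuotientGroup.ker_mk']; exact pCore_isPGroup _ _)
  refine ⟨⟨fun x hx y hy => Subtype.ext (Y_comm M _ hx _ hy), inferInstance,
    fun a ha => (hN a).2 (h3 ⟨a, ha, rfl⟩), fun W _ h => ?_, clY,
    exg.imp fun g hg e => hg ((hN g).1 e), SetLike.not_le_iff_exists.1 hYA,
    fun y hy hyA g hg X hX hx => ?_⟩, hR hYA, nrm⟩
  · rw [map_injective L.subtype_injective h2]
    refine normalClosure_le_normal fun x hx => h ⟨hx.1, ?_⟩
    obtain ⟨x', h', e⟩ := hx.2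
    rwa [← show x' = x from Subtype.ext e]
  · by_contra hX'
    refine hg ((hN g).2 (nrm g ((hR hYA).ti (π y) ⟨y, hy, rfl⟩
      (fun e => hyA ((QuotientGroup.eq_one_iff y).1 e)) _ ?_)))
    have := le_normalizer_map π ⟨_, (hN _).2 (mx X hX hX' _ hx), rfl⟩
    simpa using this

end Cfsg.Lib.FrakL
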