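import Cfsg.Agent.Lib.Loc.Large
import Cfsg.Agent.Lib.BG.T01_Coprime

/-! Members of `𝔐_G(S)`, asymmetric `Y_M` and the family `ℌ_G(O_p(M))`. -/

set_option autoImplicit false
set_option linter.unusedSectionVars false
set_option linter.style.haveILetI false

namespace Cfsg.Lib.Loc

open Cfsg Subgroup Transfer Cfsg.Lib.Core Cfsg.Lib.BG
open scoped commutatorElement

variable {G : Type*} [Group G] {p : ℕ} {A B D H K L M N P Q R S T U V W X Y : Subgroup G} {g : G}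

theorem asym_cent (h : ¬ IsSymmetricIn Y) (h1 : Y ≤ 𝐍(g ⋆ Y)) (h2 : g ⋆ Y ≤ 𝐍(Y)) : g ⋆ Y ≤ 𝐂(Y) := by
  by_contra hn
  exact h ⟨g, fun e => hn (comm_eq_bot_iff'.1 e), le_inf (comm_le_left h2) (comm_le_right h1)⟩

theorem asym_cent' (h : ¬ IsSymmetricIn Y) {x y : G} (h1 : x ⋆ Y ≤ 𝐍(y ⋆ Y)) (h2 : y ⋆ Y ≤ 𝐍(x ⋆ Y)) :
    y ⋆ Y ≤ 𝐂(x ⋆ Y) := by
  rw [← conj_normalizer, ← conj_inv_conj x (y ⋆ 𝐍(Y)), conj_le_conj_iff, conj_conj, conj_normalizer] at h1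
  rw [← conj_normalizer, le_conj_iff_inv_conj_le, conj_conj] at h2
  rw [← conj_centralizer, le_conj_iff_inv_conj_le, conj_conj]
  exact asym_cent h h1 h2

theorem asym_cent_of_norm (h : ¬ IsSymmetricIn Y) (hY : Nml Y R) (hg : g ∈ 𝐍(R)) : g ⋆ Y ≤ 𝐂(Y) := by
  have := hY.conj g
  rw [conj_eq_of_norm hg] at this
  exact asym_cent h (hY.le.trans this.norm) (this.le.trans hY.norm)

variable [Finite G] [hp : Fact p.Prime]

theorem subnormal_of_res_le (h1 : pResidualOf p H ≤ K) (h2 : K ≤ H) : SubnormalIn K H := by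
  obtain ⟨T, hT⟩ := Syl.exists p H
  have := (SubnormalIn.of_isNilpotent hT.nil (inf_le_left : T ⊓ K ≤ T)).sup_right
    (hT.le.trans (le_normalizer_res p H))
  rwa [sup_comm, sup_comm T, res_sup_sylowIn hT.le hT.not_dvd',
    ← modular_left h1 (hT.le.trans (le_normalizer_res p H)), res_sup_sylowIn hT.le hT.not_dvd',
    inf_eq_right.2 h2] at this

omit hp in
theorem core_le_core_of_subnormal (h : SubnormalIn K H) : pCoreOf p K ≤ pCoreOf p H :=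
  (core_eq_inf_of_subnormal h.le h.isSubnormal_subgroupOf).le.trans inf_le_left

theorem PRed.of_genFitting_le (h : PRed p V L) [(𝐂(V).subgroupOf L).Normal] (hV : V ≤ R) (hR : R ≤ L)
    (hF : ((generalizedFittingSubgroup (L ⧸ 𝐂(V).subgroupOf L)).comap
      (QuotientGroup.mk' (𝐂(V).subgroupOf L))).map L.subtype ≤ R) : PRed p V R := by
  set f := QuotientGroup.mk' (𝐂(V).subgroupOf L)
  have hs : Function.Surjective f := QuotientGroup.mk'_surjective _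
  have key : ∀ X ≤ L, pResidualOf p X ≤ 𝐂(V) ↔ IsPGroup p ((X.subgroupOf L).map f) := fun X hX => by
    rw [← res_le_iff_isPGroup_map, res_subgroupOf hX, subOf_le_iff ((res_le p X).trans hX)]
  have key2 : ∀ X ≤ L, (X.subgroupOf L).map f = ⊥ → X ≤ 𝐂(V) := fun X hX e => by
    rwa [Subgroup.map_eq_bot_iff, QuotientGroup.ker_mk', subOf_le_iff hX] at e
  have h0 : pCore p (L ⧸ 𝐂(V).subgroupOf L) = ⊥ := by
    have e : ((((pCore p (L ⧸ 𝐂(V).subgroupOf L)).comap f).map L.subtype).subgroupOf L).map f =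
        pCore p (L ⧸ 𝐂(V).subgroupOf L) := by
      change (comap L.subtype _).map f = _
      rw [comap_map_eq_self_of_injective L.subtype_injective, map_comap_eq_self_of_surjective hs]
    have hn := Nml.of_normal L ((pCore p (L ⧸ 𝐂(V).subgroupOf L)).comap f)
    have := h.red _ hn.le hn.norm ((key _ hn.le).2 (by rw [e]; exact pCore_isPGroup _ _))
    rw [← e, Subgroup.map_eq_bot_iff, QuotientGroup.ker_mk']
    exact comap_mono this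
  refine ⟨hV, hR.trans h.normal, h.elemAb, fun X hX hn hc => key2 X (hX.trans hR) ?_⟩
  have hXp := (key X (hX.trans hR)).1 hc
  set F := generalizedFittingSubgroup (L ⧸ 𝐂(V).subgroupOf L)
  have hFX : F ≤ 𝐍((X.subgroupOf L).map f) := by
    refine le_trans ?_ (map_norm f (subOf_le_norm hn L))
    rw [← map_comap_eq_self_of_surjective hs F]
    exact map_mono fun x hx => hF (mem_map_of_mem _ hx)
  refine eq_bot_of_le_centralizer_genFitting h0 hXp (comm_eq_bot_iff.1 (eq_bot_mono h0 ?_))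
  rw [← core_top]
  refine (le_inf (comm_le_left hFX) (comm_le_right (by rw [normalizer_eq_top]; exact le_top))).trans ?_
  exact (Loc.le_core inf_le_right (norm_inf hFX (le_norm F)) (pgroup_of_le hXp inf_le_left)).trans
    (core_le_of_le_normalizer le_top (by rw [normalizer_eq_top]))

local notation "𝐘" => largestPReducedOf p M
local notation "𝐐" => pCoreOf p M

/-- `M ∈ 𝔐_G(S)` in a group of parabolic characteristic `p`. -/
structure FM (p : ℕ) (S M : Subgroup G) : Prop where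
  par : IsOfParabolicCharacteristic p G
  syl : Syl p S ⊤
  le : S ≤ M
  mem : IsInFrakM p M

theorem FM.of_large (S : Sylow p G) (hQp : IsPGroup p Q) (hQ1 : Q ≠ ⊥) (hQ : IsLarge Q) (hSM : (S : Subgroup G) ≤ M)
    (hM : IsInFrakM p M) : FM p S M := ⟨large_parChar hQ hQp hQ1, syl_of_sylow S, hSM, hM⟩

namespace FM

variable (h : FM p S M)
include h

theorem sylM : Syl p S M := h.syl.of_le h.le le_top
theorem chp : IsChP p M := charP_isChP h.mem.1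
theorem cent_Q : 𝐂(𝐐) ≤ 𝐐 := (mem_charP.1 h.mem.1).2
theorem Q_ne : 𝐐 ≠ ⊥ := (mem_charP.1 h.mem.1).1
theorem Y_ne : 𝐘 ≠ ⊥ := Y_ne_bot h.sylM h.mem.1
theorem Y_le_Q : 𝐘 ≤ 𝐐 := (pRed_Y p M).le_core
theorem Q_le_cent : 𝐐 ≤ 𝐂(𝐘) := (pRed_Y p M).core_le
theorem Yp : IsPGroup p 𝐘 := (pRed_Y p M).isPGroup
theorem Yel : IsElementaryAbelian p 𝐘 := (pRed_Y p M).elemAb
theorem Y_cent : 𝐘 ≤ 𝐂(𝐘) := h.Y_le_Q.trans h.Q_le_cent

theorem Q_eq : 𝐐 = S ⊓ 𝐂(𝐘) := by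
  refine le_antisymm (le_inf (Syl.core_le h.sylM) h.Q_le_cent) ?_
  exact (isPClosed_iff.1 h.mem.2.2.2.2.1 _ (inf_le_inf_right _ h.le)
    (pgroup_of_le h.syl.pgroup inf_le_left)).trans
    (core_le_of_le_normalizer inf_le_left (Nml.cent (le_normalizer_Y p M)).norm)

theorem syl_Q : Syl p 𝐐 𝐂(𝐘) := by
  rw [h.Q_eq]
  exact Hall.inf_nml (h.syl.of_le (h.le.trans (le_normalizer_Y p M)) le_top) (Nml.cent_norm _)

theorem le_Q (hR : IsPGroup p R) (hc : R ≤ 𝐂(𝐘)) (hn : R ≤ 𝐍(𝐐)) : R ≤ 𝐐 := h.syl_Q.ge_of_norm_p' hc hR hn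

theorem Y_eq : 𝐘 = omegaOneCenter p 𝐐 := by
  rw [h.Q_eq]; exact Y_eq_oz h.chp h.le h.syl.pgroup h.sylM.not_dvd'

theorem norm_Q_le : 𝐍(𝐐) ≤ 𝐍(𝐘) := by
  nth_rewrite 1 [h.Y_eq]; exact normalizer_le_normalizer_oz _

theorem le_dag (hW : M ≤ W) (h1 : pCoreOf p W ≠ ⊥) : W ≤ M ⊔ 𝐂(𝐘) := by
  obtain ⟨X, hX, hle⟩ := exists_maxCharP (parChar_mem_charP h.par h.syl (h.le.trans hW) h1)
  exact h.mem.2.2.1 X hX (hW.trans hle) ▸ hle

theorem dag_eq : 𝐍(𝐘) = M ⊔ 𝐂(𝐘) :=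
  le_antisymm (h.le_dag (le_normalizer_Y p M) (core_ne_bot h.Yp h.Y_ne (Nml.norm_self _)))
    (sup_le (le_normalizer_Y p M) (cent_le_norm _))

theorem norm_le (hR : IsPGroup p R) (h1 : R ≠ ⊥) (hn : M ≤ 𝐍(R)) : 𝐍(R) ≤ 𝐍(𝐘) :=
  h.dag_eq ▸ h.le_dag hn (core_ne_bot hR h1 (Nml.norm_self _))

theorem pRed_dag : PRed p 𝐘 𝐍(𝐘) := by
  have := pRed_Y p (M ⊔ 𝐂(𝐘))
  rwa [← h.mem.2.2.2.1, ← h.dag_eq] at this

/-- The amalgam argument: for asymmetric `Y_M`, `O_p(M)` is weakly closed. -/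
theorem wc (ha : ¬ IsSymmetricIn 𝐘) : WC p 𝐐 := by
  let adj : G → G → Prop := fun x y => x ⋆ 𝐐 ≤ 𝐍(y ⋆ 𝐐) ∧ y ⋆ 𝐐 ≤ 𝐍(x ⋆ 𝐐)
  have hN : ∀ x : G, 𝐍(x ⋆ 𝐐) ≤ 𝐍(x ⋆ 𝐘) := fun x => by
    rw [← conj_normalizer, ← conj_normalizer]; exact conj_mono x h.norm_Q_le
  have step : ∀ x y : G, x ⋆ 𝐘 ≤ 𝐍(y ⋆ 𝐐) → y ⋆ 𝐘 ≤ 𝐍(x ⋆ 𝐐) → x ⋆ 𝐘 ≤ y ⋆ 𝐐 := fun x y h1 h2 => by
    have h3 := asym_cent' ha (h2.trans (hN x)) (h1.trans (hN y))
    rw [← conj_centralizer, le_conj_iff_inv_conj_le] at h3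
    rw [← conj_normalizer, le_conj_iff_inv_conj_le] at h1
    exact le_conj_iff_inv_conj_le.2 (h.le_Q (isPGroup_conj (isPGroup_conj h.Yp _) _) h3 h1)
  have path : ∀ c : ℕ → G, (∀ i, adj (c i) (c (i + 1))) → ∀ k i,
      c i ⋆ 𝐘 ≤ c (i + k) ⋆ 𝐐 ∧ c (i + k) ⋆ 𝐘 ≤ c i ⋆ 𝐐 := by
    intro c hc k
    induction k with
    | zero => exact fun i => ⟨conj_mono _ h.Y_le_Q, conj_mono _ h.Y_le_Q⟩
    | succ k ih =>
      intro i
      have h1 : c i ⋆ 𝐘 ≤ 𝐍(c (i + (k + 1)) ⋆ 𝐐) := (ih i).1.trans (hc (i + k)).1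
      have h2 : c (i + (k + 1)) ⋆ 𝐘 ≤ 𝐍(c i ⋆ 𝐐) := by
        have := (ih (i + 1)).2.trans (hc i).2
        rwa [add_assoc, add_comm 1 k] at this
      exact ⟨step _ _ h1 h2, step _ _ h2 h1⟩
  have adj_mul : ∀ n x y : G, adj x y → adj (n * x) (n * y) := fun n x y hxy => by
    simp only [adj, ← conj_conj, ← conj_normalizer n, conj_le_conj_iff]; exact hxy
  refine wc_of_comm (core_pgroup p M) fun g h1 h2 => ?_
  let 𝒞 : Set G := {x | ∃ c : ℕ → G, (∀ i, adj (c i) (c (i + 1))) ∧ c 0 ⋆ 𝐐 = 𝐐 ∧ ∃ k, c k = x}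
  set U : Subgroup G := ⨆ x : 𝒞, (x : G) ⋆ 𝐘
  have hU : U ≤ 𝐐 := iSup_le fun ⟨x, c, hc, h0, k, e⟩ => by
    have := (path c hc k 0).2
    rwa [zero_add, e, h0] at this
  have hYU : 𝐘 ≤ U := by
    have := le_iSup (fun x : 𝒞 => (x : G) ⋆ 𝐘) ⟨1, fun _ => 1, fun _ => ⟨le_norm _, le_norm _⟩, conj_one _, 0, rfl⟩
    rwa [conj_one] at this
  have inv : ∀ n : G, (∀ x ∈ 𝒞, n * x ∈ 𝒞) → n ∈ 𝐍(U) := fun n hn => mem_normalizer_of_conj_le (by
    rw [conj_le_iff_le_inv_conj]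
    refine iSup_le fun x => ?_
    rw [← conj_le_iff_le_inv_conj, conj_conj]
    exact le_iSup (fun x : 𝒞 => (x : G) ⋆ 𝐘) ⟨_, hn x x.2⟩)
  have hM : M ≤ 𝐍(U) := fun m hm => inv m fun x ⟨c, hc, h0, k, e⟩ => ⟨fun i => m * c i,
    fun i => adj_mul m _ _ (hc i), by rw [← conj_conj, h0, conj_eq_of_norm (le_normalizer_core p M hm)],
    k, by rw [← e]⟩
  have hM' : g ⋆ M ≤ 𝐍(U) := fun n hn => inv n fun x ⟨c, hc, h0, k, e⟩ => by
    have hn' : n ⋆ (g ⋆ 𝐐) = g ⋆ 𝐐 := conj_eq_of_norm (by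
      rw [← conj_normalizer]; exact conj_mono g (le_normalizer_core p M) hn)
    refine ⟨fun i => match i with | 0 => 1 | 1 => g | (j + 2) => n * c j, fun i => ?_, conj_one _, k + 2,
      by rw [← e]⟩
    match i with
    | 0 => exact ⟨by rwa [conj_one], by rwa [conj_one]⟩
    | 1 =>
      change adj g (n * c 0)
      simp only [adj]
      rw [← conj_conj, h0, ← hn', ← conj_normalizer n, ← conj_normalizer n, conj_le_conj_iff, conj_le_conj_iff]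
      exact ⟨h2, h1⟩
    | (j + 2) => exact adj_mul n _ _ (hc j)
  have hUp := pgroup_of_le (core_pgroup p M) hU
  have hU1 := ne_bot_mono h.Y_ne hYU
  have h3 : g ⋆ M ≤ M ⊔ 𝐂(𝐘) := h.dag_eq ▸ hM'.trans (h.norm_le hUp hU1 hM)
  have h4 : g⁻¹ ⋆ (M ⊔ 𝐂(𝐘)) ≤ M ⊔ 𝐂(𝐘) := h.le_dag (conj_le_iff_le_inv_conj.1 h3)
    (mem_charP.1 (charP_conj h.mem.2.1.1 _)).1
  have h5 : g ∈ 𝐍(𝐘) := by
    have := normalizer_le_normalizer_Y p _ (mem_normalizer_of_conj_le h4)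
    rw [← h.mem.2.2.2.1] at this
    simpa using (𝐍(𝐘)).inv_mem this
  refine eq_of_le_of_card_le (h.le_Q (isPGroup_conj (core_pgroup p M) g) ?_ h2) (card_conj g _).ge
  exact conj_le_of_norm h.Q_le_cent (norm_cent le_rfl h5)

theorem le_core_of_comm {I : Subgroup G} (hI1 : I ≠ ⊥) (hIp : IsPGroup p I) (hIM : M ≤ 𝐍(I))
    (hY : Y ≤ pCoreOf p 𝐍(𝐘)) (hYL : Y ≤ L) (hAp : IsPGroup p A) (hAL : L ≤ 𝐍(A)) (hIA : I ≤ A)
    (hc : ⁅Y, A⁆ ≤ ⁅A, A⁆) : Y ≤ pCoreOf p L := by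
  set E := ncl Y L
  have hE := ncl_nml hYL
  have h1 : ⁅E, A⁆ ≤ ⁅A, A⁆ := comm_ncl_le hAL (norm_der hAL) (hYL.trans (norm_der hAL)) hc
  have h2 : pResidualOf p E ≤ 𝐂(A) := res_le_iff.2 fun x hx ho => zpowers_le.1
    (coprime_cent_Phi ((zpowers_le.2 hx).trans (hE.le.trans hAL)) (by rwa [Nat.card_zpowers]) hAp (by
      rw [commutator_comm]
      exact ((commutator_mono (zpowers_le.2 hx) le_rfl).trans h1).trans
        (commutator_le_frattiniOf_of_isNilpotent (pgroup_nil hAp))))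
  have h3 : pResidualOf p E ⊔ Y ≤ 𝐍(𝐘) := sup_le (h2.trans ((cent_anti hIA).trans ((cent_le_norm I).trans
    (h.norm_le hIp hI1 hIM)))) (hY.trans (core_le p _))
  have h4 : Y ≤ pCoreOf p (pResidualOf p E ⊔ Y) := (le_inf hY le_sup_right).trans (core_inf_le h3)
  exact h4.trans (core_le_core_of_subnormal ((subnormal_of_res_le le_sup_left
    (sup_le (res_le p E) (le_ncl Y L))).tail hE.le hE.norm))

theorem conj_cent (ha : ¬ IsSymmetricIn 𝐘) (hQ : 𝐐 ≤ P) (hY : 𝐘 ≤ pCoreOf p P) (hg : g ∈ P) :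
    g ⋆ 𝐘 ≤ 𝐂(𝐘) :=
  asym_cent_of_norm ha ⟨hY, ((h.wc ha).core_le_norm hQ).trans h.norm_Q_le⟩ (le_normalizer_core p P hg)

theorem exists_frakH (ha : ¬ IsSymmetricIn 𝐘) (ht : IsCharPTall p 𝐘) : ∃ H : Subgroup G, IsInFrakH p M H := by
  obtain ⟨T, L, hTL, hL, hY⟩ := ht
  obtain ⟨c, hc, e⟩ := (Syl.of_sylow T).exists_conj_eq h.syl_Q
  have hL' := (isChP_iff.2 hL).conj c
  have h1 : 𝐐 ≤ c ⋆ L := e ▸ conj_mono c hTL
  have h2 : ¬ 𝐘 ≤ pCoreOf p (c ⋆ L) := by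
    rwa [← conj_core, ← conj_eq_of_cent hc, conj_le_conj_iff]
  obtain ⟨H, h3, hH⟩ := (Set.toFinite {H : Subgroup G | 𝐐 ≤ H ∧ ¬ 𝐘 ≤ pCoreOf p H}).exists_le_minimal
    (a := c ⋆ L) ⟨h1, h2⟩
  obtain ⟨T', hT', hQT⟩ := Syl.exists_ge (core_pgroup p M) h1
  refine ⟨H, isChP_iff.1 (hL'.of_SCN hT' ⟨hQT, (h.wc ha).le_norm hT'.pgroup hQT⟩
    (inf_le_right.trans h.cent_Q) hH.1.1 h3), hH.1.1, hH.1.2, fun P hP hlt => ?_⟩
  by_contra hn
  exact hlt.not_ge (hH.2 ⟨hP, hn⟩ hlt.le)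

end FM

/-- `H ∈ ℌ_G(O_p(M))` with `Y_M` asymmetric. -/
structure FH (p : ℕ) (S M H : Subgroup G) : Prop where
  fm : FM p S M
  asym : ¬ IsSymmetricIn (largestPReducedOf p M)
  mem : IsInFrakH p M H

namespace FH

variable (h : FH p S M H)
include h

theorem wc : WC p 𝐐 := h.fm.wc h.asym
theorem chp : IsChP p H := isChP_iff.2 h.mem.1
theorem Q_le : 𝐐 ≤ H := h.mem.2.1
theorem Y_le : 𝐘 ≤ H := h.fm.Y_le_Q.trans h.Q_le
theorem not_le : ¬ 𝐘 ≤ pCoreOf p H := h.mem.2.2.1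
theorem core_norm : pCoreOf p H ≤ 𝐍(𝐐) := h.wc.core_le_norm h.Q_le
theorem core_norm_Y : pCoreOf p H ≤ 𝐍(𝐘) := h.core_norm.trans h.fm.norm_Q_le

theorem eq_of (hQ : 𝐐 ≤ P) (hP : P ≤ H) (hn : ¬ 𝐘 ≤ pCoreOf p P) : P = H := by
  by_contra hne
  exact hn (h.mem.2.2.2 P hQ (lt_of_le_of_ne hP hne))

theorem eq_of_subnormal (hQ : 𝐐 ≤ P) (hP : SubnormalIn P H) : P = H :=
  h.eq_of hQ hP.le fun hY => h.not_le (hY.trans (core_le_core_of_subnormal hP))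

theorem eq_of_le (hQ : 𝐐 ≤ P) (hP : P ≤ H) (hL : L ≤ P) (hY : 𝐘 ≤ L) (hn : ¬ 𝐘 ≤ pCoreOf p L) : P = H :=
  h.eq_of hQ hP fun e => hn ((le_inf e hY).trans (core_inf_le hL))

theorem ncl_Q : ncl 𝐐 H = H := h.eq_of_subnormal (le_ncl _ _) (.of_le_normalizer (ncl_le_self h.Q_le) (norm_ncl _ _))

theorem res_sup : pResidualOf p H ⊔ 𝐐 = H :=
  h.eq_of_subnormal le_sup_right (subnormal_of_res_le le_sup_left (sup_le (res_le p H) h.Q_le))

theorem comm_res : ⁅pResidualOf p H, 𝐘⁆ = pResidualOf p H := by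
  set R := pResidualOf p H
  have hRn := res_nml p H
  have h1 : 𝐐 ≤ 𝐍(⁅R, 𝐘⁆) := norm_comm (h.Q_le.trans hRn.norm) (norm_of_cent h.fm.Q_le_cent)
  refine le_antisymm (hRn.comm_le h.Y_le) (res_le_of_le_sup (core_pgroup p M) h1 ?_)
  have h2 : ncl 𝐘 R ≤ 𝐐 ⊔ ⁅R, 𝐘⁆ := by
    rw [ncl_eq_sup, commutator_comm]; exact sup_le_sup_right h.fm.Y_le_Q _
  have h3 : H ≤ 𝐍(ncl 𝐘 R) := h.res_sup.ge.trans (sup_le (norm_ncl _ _)
    (norm_ncl_of_norm (norm_of_cent h.fm.Q_le_cent) (h.Q_le.trans hRn.norm)))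
  have h4 : 𝐐 ⊔ ⁅R, 𝐘⁆ ≤ H := sup_le h.Q_le ((hRn.comm_le h.Y_le).trans hRn.le)
  exact (h.eq_of_le le_sup_left h4 h2 (le_ncl _ _) fun e => h.not_le
    (e.trans (core_le_of_le_normalizer (h2.trans h4) h3))).ge

theorem res_sup_Y : pResidualOf p H ⊔ 𝐘 = ncl 𝐘 H := by
  have hRn := res_nml p H
  refine le_antisymm (sup_le ?_ (le_ncl _ _)) (ncl_le le_sup_right (h.res_sup.ge.trans (sup_le
    (le_norm_of_le le_sup_left) (norm_sup (h.Q_le.trans hRn.norm) (norm_of_cent h.fm.Q_le_cent)))))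
  rw [← h.comm_res, ncl_eq_sup, commutator_comm]
  exact (commutator_mono le_rfl hRn.le).trans le_sup_right

theorem res_le_of_norm (hY : 𝐘 ≤ N) (hn : H ≤ 𝐍(N)) : pResidualOf p H ≤ N :=
  (le_sup_left.trans h.res_sup_Y.le).trans (ncl_le hY hn)

theorem pIrreducible_sup (hK : H ≤ K) (hn : K ≤ 𝐍(H)) (hr : pResidualOf p K ≤ H) : IsPIrreducible p K := by
  have hR : pResidualOf p H = pResidualOf p K := res_eq_of_le hr hK
  refine isPIrreducible_iff.2 ⟨fun hc => h.not_le ((le_inf (isPClosed_iff.1 hc _ (h.Y_le.trans hK) h.fm.Yp)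
    h.Y_le).trans (core_inf_le hK)), fun N hN hKN hc => ?_⟩
  by_contra hle
  apply hc
  set N₁ := pResidualOf p N
  set W := pCoreOf p K
  have hKN₁ : K ≤ 𝐍(N₁) := hKN.trans (normalizer_le_normalizer_res p N)
  have hN₁ : N₁ ≤ H := (res_mono hN).trans hr
  have hKW : K ≤ 𝐍(W) := le_normalizer_core p K
  have h1 : 𝐘 ≤ pCoreOf p (𝐐 ⊔ N₁) := h.mem.2.2.2 _ le_sup_left (lt_of_le_of_ne (sup_le h.Q_le hN₁) fun e =>
    hle (hR ▸ (res_le_of_le_sup (core_pgroup p M) ((h.Q_le.trans hK).trans hKN₁) e.ge).trans (res_le p N)))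
  have h2 : ⁅N₁, 𝐘⁆ ≤ W := by
    refine (le_inf ((commutator_mono le_rfl h1).trans ((core_nml p _).comm_le' le_sup_right))
      (comm_le_left ((h.Y_le.trans hK).trans hKN₁))).trans ?_
    exact (core_inf_le le_sup_right).trans (core_le_of_le_normalizer (hN₁.trans hK) hKN₁)
  obtain ⟨T, hT, hQT⟩ := Syl.exists_ge (core_pgroup p M) (h.Q_le.trans hK)
  have hT₀ : Syl p (T ⊓ N) N := Hall.inf_nml hT ⟨hN, hKN⟩
  have hN' : N₁ ⊔ T ⊓ N = N := res_sup_sylowIn hT₀.le hT₀.not_dvd'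
  have key : ∀ Z : Subgroup G, Z ≤ T ⊓ N → T ≤ 𝐍(Z) → ⁅N₁, Z⁆ ≤ W → Z ≤ W := fun Z a b c => by
    have hZK : Z ≤ K := (a.trans inf_le_right).trans hN
    have d : N ⊔ W ≤ 𝐍(W ⊔ Z) := by
      refine sup_le (hN'.ge.trans (sup_le ?_ (norm_sup ((hT₀.le.trans hN).trans hKW) (inf_le_left.trans b))))
        (le_norm_of_le le_sup_left)
      exact norm_of_comm_le (comm_sup_le (le_norm_of_le le_sup_left) (le_norm_of_le le_sup_right)
        ((comm_le_left ((hN₁.trans hK).trans hKW)).trans le_sup_left)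
        (by rw [commutator_comm]; exact c.trans le_sup_left))
    exact le_sup_right.trans ((Loc.le_core (sup_le le_sup_right ((a.trans inf_le_right).trans le_sup_left)) d
      (pgroup_sup (core_pgroup p K) (pgroup_of_le hT₀.pgroup a) (hZK.trans hKW))).trans
      (core_le_of_le_normalizer (sup_le hN (core_le p K)) (norm_sup hKN hKW)))
  have hTY : T ≤ 𝐍(𝐘) := (h.wc.le_norm hT.pgroup hQT).trans h.fm.norm_Q_le
  have hTN : T ≤ 𝐍(T ⊓ N) := norm_inf (le_norm T) (hT.le.trans hKN)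
  have h3 : ⁅T ⊓ N, 𝐘⁆ ≤ W := (le_inf (comm_le_left ((h.fm.Y_le_Q.trans hQT).trans hTN))
    (comm_le_right (inf_le_left.trans hTY))).trans (key _ inf_le_left (norm_inf hTN hTY)
      ((commutator_mono le_rfl inf_le_right).trans h2))
  have h4 : ⁅N, 𝐘⁆ ≤ W := by
    rw [← hN']; exact comm_sup_le ((hN₁.trans hK).trans hKW) ((hT₀.le.trans hN).trans hKW) h2 h3
  have h5 : pResidualOf p H ≤ relCent N W := h.res_le_of_norm (le_relCent.2 ⟨(h.Y_le.trans hK).trans hKW, by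
    rwa [commutator_comm]⟩) (le_normalizer_relCent (hK.trans hKN) (hK.trans hKW))
  have h6 := key _ le_rfl hTN ((commutator_mono ((res_mono hN).trans hR.ge) inf_le_right).trans (le_relCent.1 h5).2)
  exact isPClosed_iff_not_dvd.2 fun hd => hT₀.not_dvd' (hd.trans (relIndex_dvd_left
    ((le_inf h6 inf_le_right).trans (core_inf_le hN)) N))

end FH

end Cfsg.Lib.Loc
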