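import Cfsg.Agent.Lib.Loc.FrakM

/-! `Y`-minimal subgroups, the `L`-lemma and the asymmetric `L`-lemma. -/

set_option autoImplicit false
set_option linter.unusedSectionVars false
set_option linter.style.haveILetI false

namespace Cfsg.Lib.Loc

open Cfsg Subgroup Transfer Cfsg.Lib.Core Cfsg.Lib.BG
open scoped commutatorElement

variable {G : Type*} [Group G] {p : ℕ} {A B D H K L M N P Q R S T U V W X Y Z : Subgroup G} {g : G}

/-- `L` is `Y`-minimal with maximal subgroup `D`. -/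
structure YMin (Y D L : Subgroup G) : Prop where
  le : Y ≤ D
  lt : D < L
  ncl_eq : ncl Y L = L
  uniq : ∀ X : Subgroup G, Y ≤ X → X < L → X ≤ D

theorem YMin.of_top [Finite G] (h : IsMinimalOver Y) (hD : IsCoatom D) (hY : Y ≤ D) : YMin Y D ⊤ :=
  ⟨hY, hD.lt_top, by rw [ncl_top]; exact h.1, fun _ h1 h2 => IsMinimalOver.le_of_ne_top h hD hY h1 h2.ne⟩

theorem comm_le_of_norm_sup (h : ⁅N, A⁆ ≤ W) (hn : N ≤ 𝐍(W)) : N ≤ 𝐍(W ⊔ A) :=
  norm_of_comm_le (comm_sup_le (le_norm_of_le le_sup_left) (le_norm_of_le le_sup_right)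
    ((comm_le_left hn).trans le_sup_left) (by rw [commutator_comm]; exact h.trans le_sup_left))

namespace YMin

variable (h : YMin Y D L)
include h

theorem Y_le : Y ≤ L := h.le.trans h.lt.le

theorem eq_of_norm (hY : Y ≤ K) (hK : K ≤ L) (hn : L ≤ 𝐍(K)) : K = L :=
  le_antisymm hK (h.ncl_eq.ge.trans (ncl_le hY hn))

theorem inf_norm_le (hY : Y ≤ K) (hK : K < L) : L ⊓ 𝐍(K) ≤ D :=
  h.uniq _ (le_inf h.Y_le (le_norm_of_le hY)) (lt_of_le_of_ne inf_le_left fun e =>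
    hK.ne (h.eq_of_norm hY hK.le (inf_eq_left.1 e)))

theorem isMinimalOver : IsMinimalOver (Y.subgroupOf L) := by
  have hc : ∀ M : Subgroup L, M ≠ ⊤ → Y.subgroupOf L ≤ M → M ≤ D.subgroupOf L := fun M h1 h2 => by
    have := h.uniq (M.map L.subtype) (by rw [← subOf_map h.Y_le]; exact map_mono h2)
      (lt_of_le_of_ne (map_subtype_le _) fun e => h1 (map_injective L.subtype_injective (by
        rw [e, ← MonoidHom.range_eq_map, range_subtype])))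
    exact fun x hx => this (mem_map_of_mem _ hx)
  have hD : D.subgroupOf L ≠ ⊤ := fun e => h.lt.not_ge (subgroupOf_eq_top.1 e)
  refine ⟨map_injective L.subtype_injective ?_, D.subgroupOf L, ⟨⟨hD, fun M hM => ?_⟩, comap_mono h.le⟩,
    fun M hM => (hM.1.le_iff_eq hD).1 (hc M hM.1.1 hM.2) |>.symm⟩
  · rw [map_normalClosure_eq_ncl h.Y_le, h.ncl_eq, ← MonoidHom.range_eq_map, range_subtype]
  · by_contra hne
    exact hM.not_ge (hc M hne ((comap_mono h.le).trans hM.le))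

variable [Finite G]

theorem mem_of_conj_le (hg : g ∈ L) (hY : g ⋆ Y ≤ D) : g ∈ D := by
  have h1 := h.uniq _ (conj_le_iff_le_inv_conj.1 hY) (by
    rw [← conj_eq_of_mem (L.inv_mem hg)]; exact conj_lt_conj_iff.2 h.lt)
  simpa using D.inv_mem (h.inf_norm_le h.le h.lt ⟨L.inv_mem hg, mem_normalizer_of_conj_le h1⟩)

theorem sup_conj (hg : g ∈ L) (hD : g ∉ D) : Y ⊔ g ⋆ Y = L := by
  by_contra hne
  exact hD (h.mem_of_conj_le hg (le_sup_right.trans (h.uniq _ le_sup_left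
    (lt_of_le_of_ne (sup_le h.Y_le (conj_le_of_mem h.Y_le hg)) hne))))

theorem inf_conj (hY : Y ≤ 𝐂(Y)) (hg : g ∈ L) (hD : g ∉ D) : Y ⊓ g ⋆ Y = Y ⊓ 𝐂(L) := by
  refine le_antisymm (le_inf inf_le_left ?_) (le_inf inf_le_left fun x hx => ?_)
  · nth_rewrite 1 [← h.sup_conj hg hD]
    refine le_cent_sup (inf_le_left.trans hY) (inf_le_right.trans ?_)
    rw [← conj_centralizer]; exact conj_mono g hY
  · rw [mem_conj, mul_assoc, ← mem_cent.1 hx.2 g hg, inv_mul_cancel_left]; exact hx.1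

variable (hY : Y ≤ 𝐂(Y)) (hA : A ≤ 𝐍(Y)) (hL : L ≤ 𝐍(A))
include hY hA hL

theorem comm_le : ⁅A, Y⁆ ≤ Y ⊓ A := le_inf (comm_le_right hA) (comm_le_left (h.Y_le.trans hL))

theorem comm_conj_le (hg : g ∈ L) : ⁅A, g ⋆ Y⁆ ≤ g ⋆ (Y ⊓ A) := by
  nth_rewrite 1 [← conj_eq_of_norm (hL hg)]
  rw [← conj_commutator]; exact conj_mono g (h.comm_le hY hA hL)

omit hY in
theorem norm_conj (hg : g ∈ L) : A ≤ 𝐍(g ⋆ (Y ⊓ A)) := by
  rw [← conj_normalizer, ← conj_eq_of_norm (hL hg), conj_le_conj_iff, conj_eq_of_norm (hL hg)]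
  exact norm_inf hA (le_norm A)

theorem ncl_eq_sup (hg : g ∈ L) (hD : g ∉ D) : ncl (Y ⊓ A) L = (Y ⊓ A) ⊔ g ⋆ (Y ⊓ A) := by
  refine le_antisymm (ncl_le le_sup_left ?_) (sup_le (le_ncl _ _) (conj_le_ncl _ hg))
  nth_rewrite 1 [← h.sup_conj hg hD]
  refine sup_le (comm_le_of_norm_sup ?_ (norm_of_cent (cent_symm (inf_le_left.trans hY)))) ?_
  · rw [commutator_comm]
    exact (commutator_mono (conj_le_of_norm inf_le_right (hL hg)) le_rfl).trans (h.comm_le hY hA hL)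
  · rw [sup_comm]
    refine comm_le_of_norm_sup ?_ ?_
    · rw [commutator_comm]
      exact (commutator_mono inf_le_right le_rfl).trans (h.comm_conj_le hY hA hL hg)
    · rw [← conj_normalizer]; exact conj_mono g (norm_of_cent (cent_symm (inf_le_left.trans hY)))

omit hY hA in
theorem ncl_le_A : ncl (Y ⊓ A) L ≤ A := ncl_le inf_le_right hL

theorem comm_L_le : ⁅A, L⁆ ≤ ncl (Y ⊓ A) L := by
  nth_rewrite 1 [← h.ncl_eq]
  rw [commutator_comm]
  refine comm_ncl_le hL (norm_ncl _ _) (h.Y_le.trans (norm_ncl _ _)) ?_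
  rw [commutator_comm]; exact (h.comm_le hY hA hL).trans (le_ncl _ _)

theorem mem_ncl (hg : g ∈ L) (hD : g ∉ D) {x : G} (hx : x ∈ ncl (Y ⊓ A) L) :
    ∃ b ∈ Y ⊓ A, ∃ c ∈ g ⋆ (Y ⊓ A), b * c = x := by
  rw [h.ncl_eq_sup hY hA hL hg hD] at hx
  exact (mem_sup_right_norm (inf_le_right.trans (h.norm_conj hA hL hg))).1 hx

theorem inf_cent_le : A ⊓ 𝐂(Y) ≤ (Y ⊓ A) ⊔ (A ⊓ 𝐂(L)) := by
  obtain ⟨g, hg, hD⟩ := SetLike.exists_of_lt h.lt
  rintro a ⟨ha, hc⟩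
  obtain ⟨b, hb, c, hc', e⟩ := h.mem_ncl hY hA hL hg hD (h.comm_L_le hY hA hL
    (comm_mem_comm (A.inv_mem ha) hg))
  have h1 : a * b ∈ 𝐂(L) := by
    rw [← h.sup_conj hg hD, cent_sup]
    refine ⟨Subgroup.mul_mem _ hc (hY hb.1), ?_⟩
    have : a * b = g * a * g⁻¹ * c⁻¹ := by
      rw [eq_mul_inv_iff_mul_eq, mul_assoc, e]; group
    rw [this, ← conj_centralizer]
    exact Subgroup.mul_mem _ (conj_mem_conj.2 hc) (Subgroup.inv_mem _ (conj_mono g (inf_le_left.trans hY) hc'))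
  rw [show a = (a * b) * b⁻¹ by group]
  exact Subgroup.mul_mem _ (mem_sup_right ⟨A.mul_mem ha hb.2, h1⟩) (Subgroup.inv_mem _ (mem_sup_left hb))

theorem mem_of_comm_le (hZ : Z ≤ Y ⊓ A) (hZc : Z ≤ 𝐂(L)) {x : G} (hx : x ∈ ncl (Y ⊓ A) L)
    (hc : x ∈ relCent Y Z) : x ∈ Y ⊓ A := by
  obtain ⟨g, hg, hD⟩ := SetLike.exists_of_lt h.lt
  obtain ⟨b, hb, c, hc', rfl⟩ := h.mem_ncl hY hA hL hg hD hx
  have hb' : b ∈ relCent Y Z := le_relCent.2 ⟨(inf_le_left.trans h.Y_le).trans (norm_of_cent (cent_symm hZc)),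
    (comm_eq_bot_iff.2 (inf_le_left.trans hY)).le.trans bot_le⟩ hb
  have h1 : zpowers c ≤ relCent Y Z := zpowers_le.2 (by simpa using mul_mem (inv_mem hb') hc)
  have h2 : ⁅zpowers c, L⁆ ≤ Z := by
    rw [← h.sup_conj hg hD]
    refine comm_sup_le' (h.Y_le.trans (norm_of_cent (cent_symm hZc)))
      ((conj_le_of_mem h.Y_le hg).trans (norm_of_cent (cent_symm hZc))) (le_relCent.1 h1).2 ?_
    refine (comm_eq_bot_iff.2 ((zpowers_le.2 hc').trans ?_)).le.trans bot_le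
    rw [← conj_centralizer]; exact conj_mono g (inf_le_left.trans hY)
  have h3 := hZ (h2 (comm_mem_comm (mem_zpowers c) (L.inv_mem hg)))
  refine mul_mem hb ?_
  have h4 := (Y ⊓ A).mul_mem h3 (mem_conj.1 hc')
  rwa [show c * g⁻¹ * c⁻¹ * g⁻¹⁻¹ * (g⁻¹ * c * g) = c * (g⁻¹ * c⁻¹ * c * g) by group, inv_mul_cancel_right,
    inv_mul_cancel, mul_one] at h4

end YMin

variable [Finite G] [hp : Fact p.Prime]

theorem exists_comm_le_of_lt (hW : IsPGroup p W) (hR : IsPGroup p R) (hZ : Nml Z W) (hne : ¬ W ≤ Z)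
    (hRW : R ≤ 𝐍(W)) (hRZ : R ≤ 𝐍(Z)) : ∃ U : Subgroup G, Z < U ∧ U ≤ W ∧ ⁅U, R⁆ ≤ Z := by
  have h1 := pgroup_inf_cent_ne_bot (pgroup_quo hW Z) (by rwa [Ne, quo_eq_bot_iff hZ.norm]) (pgroup_quo hR Z)
    (quo_norm hRW Z)
  refine ⟨_, lt_copre h1, copre_le_of_le_quo hZ inf_le_left, (quo_le_cent_iff (copre_le_norm _) hRZ).1 ?_⟩
  rw [quo_copre]; exact inf_le_right

/-- If `O^p(H)` centralizes a chief factor, so does `H`. -/
theorem comm_le_of_chief (hV : IsPGroup p V) (hHV : H ≤ 𝐍(V)) (hHW : H ≤ 𝐍(W)) (hW : Nml W V)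
    (hc : ∀ Z : Subgroup G, H ≤ 𝐍(Z) → W ≤ Z → Z ≤ V → Z = W ∨ Z = V) (h : ⁅V, pResidualOf p H⁆ ≤ W) :
    ⁅V, H⁆ ≤ W := by
  by_cases hle : V ≤ W
  · exact (comm_le_left hHV).trans hle
  obtain ⟨T, hT⟩ := Syl.exists p H
  obtain ⟨U, h1, h2, h3⟩ := exists_comm_le_of_lt hV hT.pgroup hW hle (hT.le.trans hHV) (hT.le.trans hHW)
  have h4 : ⁅U, H⁆ ≤ W := by
    rw [← res_sup_sylowIn hT.le hT.not_dvd']
    exact comm_sup_le' ((res_le p H).trans hHW) (hT.le.trans hHW) ((commutator_mono h2 le_rfl).trans h) h3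
  rwa [((hc U (norm_of_comm_le (h4.trans h1.le)) h1.le h2).resolve_left h1.ne')] at h4

theorem yMin_of_min (hY : IsPGroup p Y) (hYL : Y ≤ L) (hn : ¬ Y ≤ pCoreOf p L)
    (hmin : ∀ K : Subgroup G, K ≤ L → Y ≤ K → ¬ Y ≤ pCoreOf p K → K = L) : ∃ D, YMin Y D L ∧
      ∀ K : Subgroup G, Y ≤ K → K < L → Y ≤ pCoreOf p K := by
  have key : ∀ K : Subgroup G, Y ≤ K → K < L → Y ≤ pCoreOf p K := fun K h1 h2 => by
    by_contra hn; exact h2.ne (hmin K h2.le h1 hn)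
  obtain ⟨D, h1, h2⟩ := zipper hYL (fun K a b => (SubnormalIn.of_isNilpotent (pgroup_nil (core_pgroup p K))
    (key K a b)).tail (core_le p K) (le_normalizer_core p K))
    fun hs => hn (le_core_of_subnormal hYL hs.isSubnormal_subgroupOf hY)
  have h3 : Y ≠ L := fun e => hn (by rw [← e]; exact (core_eq_self_iff.2 hY).ge)
  refine ⟨D, ⟨h2 Y le_rfl (lt_of_le_of_ne hYL h3), h1, hmin _ (ncl_le_self hYL) (le_ncl _ _) fun e => hn
    (e.trans (core_le_of_le_normalizer (ncl_le_self hYL) (norm_ncl _ _))), h2⟩, key⟩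

/-- The `L`-lemma. -/
theorem l_lemma (hT : Syl p T ⊤) (hmin : IsMinimalOver T) (hM : IsCoatom M) (hTM : T ≤ M) (hA : IsPGroup p A)
    (hn : ¬ A ≤ pCore p G) : ∃ L : Subgroup G, A ⊔ pCore p G ≤ L ∧ ∃ L₀ : Subgroup G, A ⊔ pCoreOf p L ≤ L₀ ∧
      L₀ < L ∧ (∀ X : Subgroup G, A ⊔ pCoreOf p L ≤ X → X < L → X ≤ L₀) ∧ (∃ g : G, L₀ = L ⊓ g ⋆ M) ∧
      ∀ x ∈ L, x ∉ L₀ → (A ⊔ x ⋆ A) ⊔ pCoreOf p L = L := by
  rw [← core_top] at hn ⊢
  set O := pCoreOf p (⊤ : Subgroup G)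
  have hO : ∀ X : Subgroup G, X ≤ 𝐍(O) := fun X => le_top.trans (le_normalizer_core p ⊤)
  have hS : ∀ S K : Subgroup G, Syl p S ⊤ → S ≤ K → K ≠ ⊤ → ∃ a : G, S ≤ a ⋆ M ∧ K ≤ a ⋆ M ∧
      ∀ b : G, S ≤ b ⋆ M → b ⋆ M = a ⋆ M := fun S K hS hK hne => by
    obtain ⟨a, -, rfl⟩ := hT.exists_conj_eq hS
    have key : ∀ K : Subgroup G, a ⋆ T ≤ K → K ≠ ⊤ → K ≤ a ⋆ M := fun K hK hne =>
      le_conj_iff_inv_conj_le.2 (IsMinimalOver.le_of_ne_top hmin hM hTM (conj_le_iff_le_inv_conj.1 hK) fun e =>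
        hne (by rw [← conj_inv_conj a K, e, conj_top]))
    exact ⟨a, conj_mono a hTM, key K hK hne, fun b hb => ((isCoatom_conj hM b).le_iff_eq
      (isCoatom_conj hM a).1).1 (key _ hb (isCoatom_conj hM b).1) |>.symm⟩
  let NC : Subgroup G → Prop := fun X => ∀ a : G, ¬ X ≤ a ⋆ M
  let 𝒲 : Set (Subgroup G) := {W | IsPGroup p W ∧ W ≤ weakClosure A W ∧ O ≤ 𝐍(W) ∧ NC 𝐍(W)}
  obtain ⟨W₀, hW₀, hmax₀⟩ := (Set.toFinite 𝒲).exists_maximalFor (fun X : Subgroup G => Nat.card X) _ ⟨⊥, IsPGroup.of_bot,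
    bot_le, by rw [norm_bot]; exact le_top, fun a h => (isCoatom_conj hM a).1 (by rwa [norm_bot, top_le_iff] at h)⟩
  obtain ⟨x, hx1, hx2⟩ : ∃ x : G, x ⋆ A ≤ 𝐍(W₀) ∧ ¬ x ⋆ A ≤ W₀ := by
    by_contra hc
    push Not at hc
    obtain ⟨S, hS', hWS⟩ := Syl.exists_ge hW₀.1 le_top
    have h1 : ∀ X : Subgroup G, W₀ ≤ X → X ≤ 𝐍(W₀) → 𝐍(X) ≤ 𝐍(W₀) := fun X a b => by
      rw [← le_antisymm (wcl_le_iff.2 fun x hx => hc x (hx.trans b)) (hW₀.2.1.trans (wcl_mono a))]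
      exact norm_wcl le_rfl
    have h2 : S ≤ 𝐍(W₀) := by
      by_contra hne
      have := nil_norm_grow hS'.nil (lt_of_le_of_ne (inf_le_left : S ⊓ 𝐍(W₀) ≤ S) fun e => hne (inf_eq_left.1 e))
      exact this.not_ge (inf_le_inf_left S (h1 _ (le_inf hWS (le_norm _)) inf_le_right))
    by_cases ht : 𝐍(W₀) = ⊤
    · obtain ⟨y, -, hy⟩ := hS'.exists_conj_le hA le_top
      refine hn ((conj_le_iff_le_inv_conj.1 ((hc y (hy.trans h2)).trans
        (Loc.le_core le_top ht.ge hW₀.1))).trans (conj_eq_of_norm (hO ⊤ trivial)).le)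
    · obtain ⟨a, -, ha, -⟩ := hS S _ hS' h2 ht
      exact hW₀.2.2.2 a ha
  set W := x⁻¹ ⋆ W₀
  have hWp : IsPGroup p W := isPGroup_conj hW₀.1 _
  have hW1 : W ≤ weakClosure A W := by rw [← conj_wcl]; exact conj_mono _ hW₀.2.1
  have hW2 : O ≤ 𝐍(W) := by
    rw [← conj_normalizer, ← conj_eq_of_norm (hO ⊤ (mem_top x⁻¹))]; exact conj_mono _ hW₀.2.2.1
  have hW3 : NC 𝐍(W) := fun a ha => hW₀.2.2.2 (x * a) (by
    rwa [← conj_normalizer, ← le_conj_iff_inv_conj_le, conj_conj] at ha)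
  have hAW : A ≤ 𝐍(W) := by rwa [← conj_normalizer, ← conj_le_iff_le_inv_conj]
  have hAW' : ¬ A ≤ W := by rwa [← conj_le_iff_le_inv_conj]
  obtain ⟨L, hLN, hL⟩ := (Set.toFinite {L : Subgroup G | A ⊔ (W ⊔ O) ≤ L ∧ NC L}).exists_le_minimal
    (a := 𝐍(W)) ⟨sup_le hAW (sup_le (le_norm W) hW2), hW3⟩
  have hAL : A ≤ L := le_sup_left.trans hL.1.1
  have hR : W ⊔ O ≤ pCoreOf p L := sup_le (Loc.le_core ((le_sup_left.trans le_sup_right).trans hL.1.1) hLN hWp)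
    (Loc.le_core ((le_sup_right.trans le_sup_right).trans hL.1.1) (hO L) (core_pgroup p _))
  have hbig : ∀ X : Subgroup G, IsPGroup p X → A ⊔ pCoreOf p L ≤ X → ∃ c : G, 𝐍(X) ≤ c ⋆ M := fun X a b => by
    by_contra hc
    push Not at hc
    have h1 : W ≤ weakClosure A X := hW1.trans (wcl_mono ((le_sup_left.trans hR).trans (le_sup_right.trans b)))
    have h2 := hmax₀ (show weakClosure A X ∈ 𝒲 from ⟨pgroup_of_le a (wcl_le A X), (wcl_wcl A X).ge,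
      ((le_sup_right.trans hR).trans (le_sup_right.trans b)).trans (wcl_nml A X).norm,
      fun c e => hc c ((norm_wcl le_rfl).trans e)⟩) ((card_conj x⁻¹ W₀).ge.trans (card_le_of_le h1))
    exact hAW' ((le_wcl (le_sup_left.trans b)).trans
      (eq_of_le_of_card_le h1 (h2.trans (card_conj x⁻¹ W₀).ge)).ge)
  have huniq : ∀ X : Subgroup G, IsPGroup p X → A ⊔ pCoreOf p L ≤ X → ∀ a b : G, X ≤ a ⋆ M → X ≤ b ⋆ M →
      a ⋆ M = b ⋆ M := fun X => by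
    induction X using WellFoundedGT.induction with
    | _ X ih =>
    intro hX hle
    obtain ⟨c, hc⟩ := hbig X hX hle
    have key : ∀ a : G, X ≤ a ⋆ M → a ⋆ M = c ⋆ M := fun a ha => by
      obtain ⟨S, h1, h2⟩ := Syl.exists_ge hX ha
      rcases h2.eq_or_lt with rfl | h2
      · have h3 : Syl p X ⊤ := Hall.trans_idx h1 le_top (PiNat.p'_iff.2 (by
          rw [relIndex_top_right, index_conj]
          exact isParabolic_iff_not_dvd.1 (isParabolic_iff.2 ⟨T, hT, hTM⟩)))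
        obtain ⟨d, -, -, hd⟩ := hS X _ h3 ha (isCoatom_conj hM a).1
        rw [hd a ha, hd c ((le_norm X).trans hc)]
      · have h3 := nil_norm_grow h1.nil h2
        exact ih _ h3 (pgroup_of_le h1.pgroup inf_le_left) (hle.trans h3.le) a c (inf_le_left.trans h1.le)
          (inf_le_right.trans hc)
    exact fun a b ha hb => (key a ha).trans (key b hb).symm
  have hX₀ : IsPGroup p ↥(A ⊔ pCoreOf p L) := by
    rw [sup_comm]; exact pgroup_sup (core_pgroup p L) hA (hAL.trans (le_normalizer_core p L))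
  obtain ⟨c, hc⟩ := hbig _ hX₀ le_rfl
  have hc' := (le_norm _).trans hc
  have hall : ∀ X : Subgroup G, A ⊔ pCoreOf p L ≤ X → X < L → X ≤ L ⊓ c ⋆ M := fun X a b => by
    by_contra hne
    refine b.not_ge (hL.2 ⟨(sup_le_sup_left hR A).trans a, fun d hd => hne (le_inf b.le ?_)⟩ b.le)
    rwa [← huniq _ hX₀ le_rfl d c (a.trans hd) hc']
  refine ⟨L, (sup_le_sup_left le_sup_right A).trans hL.1.1, L ⊓ c ⋆ M, le_inf (sup_le hAL (core_le p L)) hc',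
    lt_of_le_of_ne inf_le_left fun e => hL.1.2 c (inf_eq_left.1 e), hall, ⟨c, rfl⟩, fun y hy hy' => ?_⟩
  by_contra hne
  have h1 := (hall _ (sup_le_sup_right le_sup_left _) (lt_of_le_of_ne
    (sup_le (sup_le hAL (conj_le_of_mem hAL hy)) (core_le p L)) hne)).trans inf_le_right
  have h2 := huniq _ hX₀ le_rfl (y⁻¹ * c) c (by
    rw [← conj_conj, ← conj_le_iff_le_inv_conj, conj_sup, conj_eq_of_norm (le_normalizer_core p L hy)]
    exact (sup_le_sup_right le_sup_right _).trans h1) hc'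
  rw [← conj_conj] at h2
  have h3 := (𝐍(c ⋆ M)).inv_mem (norm_of_conj_eq h2)
  rw [inv_inv, ← conj_normalizer] at h3
  exact hy' ⟨hy, conj_mono c (IsMinimalOver.normalizer_le hmin hM hTM hTM hM.1) h3⟩

local notation "𝐘" => largestPReducedOf p M
local notation "𝐐" => pCoreOf p M

namespace FH

variable (h : FH p S M H) (hL : YMin (largestPReducedOf p M) D L) (hLH : L ≤ H)
  (hn : ¬ largestPReducedOf p M ≤ pCoreOf p L)
include h hL hLH hn

theorem conj_sup (hg : g ∈ L) (hD : g ∉ D) : g ⋆ 𝐘 ⊔ 𝐐 = H :=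
  h.eq_of_le le_sup_right (sup_le ((conj_le_of_mem hL.Y_le hg).trans hLH) h.Q_le)
    ((hL.sup_conj hg hD).ge.trans (sup_le (h.fm.Y_le_Q.trans le_sup_right) le_sup_left)) hL.Y_le hn

theorem L_sup : L ⊔ 𝐐 = H := h.eq_of_le le_sup_right (sup_le hLH h.Q_le) le_sup_left hL.Y_le hn

theorem inf_conj_le (hg : g ∈ L) (hD : g ∉ D) : 𝐘 ⊓ g ⋆ 𝐘 ≤ 𝐂(H) := by
  rw [← h.conj_sup hL hLH hn hg hD]
  refine le_cent_sup (inf_le_right.trans ?_) (inf_le_left.trans (cent_symm h.fm.Q_le_cent))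
  rw [← conj_centralizer]; exact conj_mono g h.fm.Y_cent

theorem inf_cent_le : 𝐘 ⊓ 𝐂(L) ≤ 𝐂(H) := by
  obtain ⟨g, hg, hD⟩ := SetLike.exists_of_lt hL.lt
  rw [← hL.inf_conj h.fm.Y_cent hg hD]; exact h.inf_conj_le hL hLH hn hg hD

theorem comm_le_sup : ⁅pCoreOf p H, H⁆ ≤ ncl (𝐘 ⊓ pCoreOf p H) L ⊔ (pCoreOf p H ⊓ 𝐂(L)) := by
  have hA := hLH.trans (le_normalizer_core p H)
  have h1 := (hL.comm_L_le h.fm.Y_cent h.core_norm_Y hA).trans (le_sup_left (b := pCoreOf p H ⊓ 𝐂(L)))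
  have h2 : ⁅pCoreOf p H, 𝐐⁆ ≤ ncl (𝐘 ⊓ pCoreOf p H) L ⊔ (pCoreOf p H ⊓ 𝐂(L)) :=
    (le_inf ((core_nml p H).comm_le h.Q_le) ((comm_le_right h.core_norm).trans h.fm.Q_le_cent)).trans
      ((hL.inf_cent_le h.fm.Y_cent h.core_norm_Y hA).trans (sup_le_sup_right (le_ncl _ _) _))
  have h3 := sup_le (hL.ncl_le_A hA) (inf_le_left (b := 𝐂(L)))
  nth_rewrite 2 [← h.L_sup hL hLH hn]
  exact comm_sup_le' (norm_of_comm_le_of_le h1 h3) (norm_of_comm_le_of_le h2 h3) h1 h2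

theorem le_norm_Y (hD : 𝐘 ≤ pCoreOf p D) : D ≤ 𝐍(𝐘) := by
  set A := pCoreOf p H
  have hHA : H ≤ 𝐍(A) := le_normalizer_core p H
  have hA := hLH.trans hHA
  have hAY := h.core_norm_Y
  have hYc := h.fm.Y_cent
  have hDH := hL.lt.le.trans hLH
  set B := 𝐘 ⊓ A
  set W := ncl B L
  set Z := B ⊓ 𝐂(H)
  have hZH : H ≤ 𝐍(Z) := norm_of_cent (cent_symm inf_le_right)
  have hWA : W ≤ A := hL.ncl_le_A hA
  have hBZ : ¬ B ≤ Z := fun e => h.not_le (by
    have h1 : pResidualOf p H ≤ relCent A Z := h.res_le_of_norm (le_relCent.2 ⟨h.Y_le.trans hZH, by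
      rw [commutator_comm]; exact (hL.comm_le hYc hAY hA).trans e⟩) (le_normalizer_relCent hHA hZH)
    have h2 := h.chp.isPGroup_of_res_le le_rfl (res_le_centralizer_of_commutator (W := Z)
      (pgroup_of_le h.fm.Yp (inf_le_left.trans inf_le_left)) (by
        rw [commutator_comm]; exact (le_relCent.1 h1).2) ((res_le p H).trans (cent_symm inf_le_right)))
    exact h.Y_le.trans (core_eq_self_iff.2 h2).ge)
  obtain ⟨U, u1, u2, u3⟩ := exists_comm_le_of_lt (pgroup_of_le (core_pgroup p H) hWA) (core_pgroup p D)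
    ⟨inf_le_left.trans (le_ncl B L), (hWA.trans (core_le p H)).trans hZH⟩ (fun e => hBZ ((le_ncl B L).trans e))
    ((core_le p D).trans (hL.lt.le.trans (norm_ncl B L))) (((core_le p D).trans hDH).trans hZH)
  obtain ⟨u, hu, huZ⟩ := SetLike.exists_of_lt u1
  have hud : ∀ d ∈ D, u ∈ d ⋆ B := fun d hd => by
    rw [mem_conj]
    refine hL.mem_of_comm_le hYc hAY hA inf_le_left (inf_le_right.trans (cent_anti hLH))
      (conj_mem_of_norm' (norm_ncl B L (hL.lt.le hd)) (u2 hu)) ?_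
    have h1 : u ∈ relCent (pCoreOf p D) Z :=
      le_relCent.2 ⟨((u2.trans hWA).trans (core_le p H)).trans hZH, u3⟩ hu
    have h2 := conj_mem_of_norm' (le_normalizer_relCent (le_normalizer_core p D) (hDH.trans hZH) hd) h1
    exact ⟨h2.1, fun l hl => h2.2 l (hD hl)⟩
  have hP : ∀ d ∈ D, d ⋆ 𝐐 ≤ H ⊓ 𝐂[u] := fun d hd => le_inf (conj_le_of_mem h.Q_le (hDH hd)) (le_cent1_iff.2 (by
    rw [← conj_centralizer]; exact conj_mono d (inf_le_left.trans (cent_symm h.fm.Q_le_cent)) (hud d hd)))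
  have hP1 : 𝐐 ≤ H ⊓ 𝐂[u] := by have := hP 1 D.one_mem; rwa [conj_one] at this
  have hP2 : 𝐘 ≤ pCoreOf p (H ⊓ 𝐂[u]) := h.mem.2.2.2 _ hP1 (lt_of_le_of_ne inf_le_left fun e => huZ
    ⟨by have := hud 1 D.one_mem; rwa [conj_one] at this, le_cent1_iff.1 (inf_eq_left.1 e)⟩)
  have hYd : ∀ d ∈ D, d ⋆ 𝐘 ≤ 𝐐 := fun d hd => by
    obtain ⟨c, hc, e⟩ := h.wc.exists_conj hP1 (hP d hd)
    have e' : d ⋆ 𝐘 = c ⋆ 𝐘 := by rw [h.fm.Y_eq, conj_oz, conj_oz, e]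
    rw [e']
    exact h.fm.le_Q (isPGroup_conj h.fm.Yp c) (h.fm.conj_cent h.asym hP1 hP2 hc)
      ((conj_le_of_norm hP2 (le_normalizer_core p _ hc)).trans (h.wc.core_le_norm hP1))
  set C := A ⊓ 𝐂(𝐘)
  have hC : C ≤ B ⊔ (A ⊓ 𝐂(L)) := hL.inf_cent_le hYc hAY hA
  have hDB : D ≤ 𝐍(B) := fun d hd => mem_normalizer_of_conj_le fun x hx =>
    hL.mem_of_comm_le hYc hAY hA bot_le bot_le (conj_le_ncl B (hL.lt.le hd) hx) (by
      rw [relCent_bot]; exact h.fm.Q_le_cent (hYd d hd (conj_mono d inf_le_left hx)))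
  have hDC : ⁅C, D⁆ ≤ B := (commutator_mono hC le_rfl).trans (comm_sup_le (le_norm B)
    (inf_le_left.trans (norm_inf hAY (le_norm A))) (comm_le_left hDB)
    ((comm_eq_bot_iff.2 (inf_le_right.trans (cent_anti hL.lt.le))).le.trans bot_le))
  have hBC : B ≤ C := le_inf inf_le_right (inf_le_left.trans hYc)
  have hDC' : D ≤ 𝐍(C) := norm_of_comm_le (hDC.trans hBC)
  have hQA : 𝐐 ≤ 𝐍(A) := h.Q_le.trans hHA
  have hQY : 𝐐 ≤ 𝐍(𝐘) := norm_of_cent h.fm.Q_le_cent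
  have hQC : 𝐐 ≤ 𝐍(C) := norm_inf hQA (norm_cent hQY)
  have hQB : 𝐐 ≤ 𝐂(B) := h.fm.Q_le_cent.trans (cent_anti inf_le_left)
  have h5 : ∀ d ∈ D, ⁅𝐐, d ⋆ 𝐘⁆ ≤ C := fun d hd => by
    refine le_inf (h.chp.le_core (comm_le_of_le h.Q_le ((hYd d hd).trans h.Q_le)) (comm_eq_bot_iff.1
      (eq_bot_iff.2 (three_subgroups_normal ⊥ ?_ ?_))))
      ((comm_le_of_le le_rfl (hYd d hd)).trans h.fm.Q_le_cent)
    · refine (comm_eq_bot_iff.2 (le_trans ?_ (cent_symm hQB))).le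
      rw [commutator_comm, ← conj_eq_of_norm (hDB hd)]
      exact hL.comm_conj_le hYc hAY hA (hL.lt.le hd)
    · refine (comm_eq_bot_iff.2 ?_).le
      have : ⁅A, 𝐐⁆ ≤ C := le_inf (comm_le_left hQA) ((comm_le_right h.core_norm).trans h.fm.Q_le_cent)
      rw [← conj_eq_of_norm (hDC' hd)] at this
      rw [← conj_centralizer]
      exact this.trans (conj_mono d inf_le_right)
  set R := ncl 𝐐 (𝐐 ⊔ D)
  have hR : R = ncl 𝐐 D := by
    refine le_antisymm (ncl_le (le_ncl _ _) (sup_le (le_norm_of_le (le_ncl _ _)) (norm_ncl _ _)))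
      (ncl_mono le_rfl le_sup_right)
  have h6 : ⁅𝐘, R⁆ ≤ C := by
    rw [hR, commutator_comm, ncl_def]
    refine commutator_iSup_le (fun d => conj_le_of_norm hQC (le_norm _ (hDC' d.2)))
      fun d => ?_
    rw [← conj_inv_conj (d : G) 𝐘, ← conj_commutator]
    exact conj_le_of_norm (h5 _ (D.inv_mem d.2)) (hDC' d.2)
  have hPn : 𝐐 ⊔ D ≤ 𝐍(relCent C B) :=
    le_normalizer_relCent (sup_le hQC hDC') (sup_le (norm_of_cent hQB) hDB)
  have h7 : pResidualOf p R ≤ relCent C B := (res_mono (ncl_le_self le_sup_left)).trans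
    (res_le_of_le_sup (core_pgroup p M) (le_sup_left.trans hPn) (sup_le_sup_left (le_relCent.2 ⟨hDB, by
      rwa [commutator_comm]⟩) _))
  have h8 : R ≤ 𝐂(B) := ncl_le hQB (norm_cent (sup_le (norm_of_cent hQB) hDB))
  have h9 : pResidualOf p R ≤ 𝐂(𝐘) := res_le_centralizer_of_commutator
    (pgroup_of_le (core_pgroup p H) inf_le_left) ((commutator_mono le_rfl (res_le p R)).trans h6)
    (res_le_centralizer_of_commutator (pgroup_of_le h.fm.Yp inf_le_left) (by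
      rw [commutator_comm]; exact (le_relCent.1 h7).2) ((res_le p R).trans h8))
  have h10 : R ≤ 𝐂(𝐘) := (h.wc.res_sup le_sup_left).ge.trans (sup_le h9 h.fm.Q_le_cent)
  refine fun d hd => mem_normalizer_of_conj_le ?_
  nth_rewrite 2 [h.fm.Y_eq]
  refine le_oz ((elab_conj d).2 h.fm.Yel) (hYd d hd) ?_
  rw [conj_le_iff_le_inv_conj, conj_centralizer]
  exact cent_symm ((conj_le_ncl _ (mem_sup_right (D.inv_mem hd))).trans h10)

theorem core_inf_le (hD : D ≤ 𝐍(𝐘)) (hO : pCoreOf p L ≤ D) : pCoreOf p L ⊓ 𝐘 ≤ pCoreOf p H := by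
  set A := pCoreOf p H
  have hHA : H ≤ 𝐍(A) := le_normalizer_core p H
  have hA := hLH.trans hHA
  have hAY := h.core_norm_Y
  have hYc := h.fm.Y_cent
  set B := 𝐘 ⊓ A
  set Z := B ⊓ 𝐂(H)
  have hZH : H ≤ 𝐍(Z) := norm_of_cent (cent_symm inf_le_right)
  set A₁ := ncl B L ⊔ (A ⊓ 𝐂(L))
  have h1 : ⁅A, H⁆ ≤ A₁ := h.comm_le_sup hL hLH hn
  have h2 : A₁ ≤ A := sup_le (hL.ncl_le_A hA) inf_le_left
  have h3 : H ≤ 𝐍(A₁) := norm_of_comm_le_of_le h1 h2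
  have hAZ : A ≤ 𝐍(Z) := (core_le p H).trans hZH
  obtain ⟨g, hg, hgD⟩ := SetLike.exists_of_lt hL.lt
  have h4 : ⁅A₁, pCoreOf p L ⊓ 𝐘⁆ ≤ Z := by
    refine comm_sup_le ((hL.ncl_le_A hA).trans hAZ) (inf_le_left.trans hAZ) ?_
      ((comm_eq_bot_iff.2 (inf_le_right.trans (cent_anti (inf_le_left.trans (core_le p L))))).le.trans bot_le)
    rw [hL.ncl_eq_sup hYc hAY hA hg hgD]
    have hgB : g ⋆ B ≤ A := conj_le_of_norm inf_le_right (hA hg)
    refine comm_sup_le (inf_le_right.trans hAZ) (hgB.trans hAZ)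
      ((comm_eq_bot_iff.2 (cent_mono hYc inf_le_left inf_le_right)).le.trans bot_le) ?_
    have h5 : ⁅g ⋆ B, pCoreOf p L ⊓ 𝐘⁆ ≤ B := (commutator_mono hgB inf_le_right).trans (hL.comm_le hYc hAY hA)
    have h6 : pCoreOf p L ≤ 𝐍(g ⋆ 𝐘) := by
      rw [← conj_normalizer, ← conj_eq_of_norm (le_normalizer_core p L hg)]; exact conj_mono g (hO.trans hD)
    exact le_inf h5 ((le_inf (h5.trans inf_le_left) ((commutator_mono (conj_mono g inf_le_left) le_rfl).trans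
      (comm_le_left (inf_le_left.trans h6)))).trans (h.inf_conj_le hL hLH hn hg hgD))
  set N := H ⊓ relCent A₁ Z
  have h7 : IsPGroup p N := h.chp.isPGroup_of_res_le inf_le_left (res_le_centralizer_of_commutator
    (pgroup_of_le (core_pgroup p H) h2) ((commutator_mono le_rfl ((res_le p N).trans inf_le_left)).trans h1)
    (res_le_centralizer_of_commutator (W := Z) (pgroup_of_le h.fm.Yp (inf_le_left.trans inf_le_left)) (by
      rw [commutator_comm]; exact (le_relCent.1 ((res_le p N).trans inf_le_right)).2)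
      (((res_le p N).trans inf_le_left).trans (cent_symm inf_le_right))))
  refine le_trans (le_inf (inf_le_right.trans h.Y_le) (le_relCent.2 ⟨(inf_le_right.trans h.Y_le).trans hZH, by
    rwa [commutator_comm]⟩)) (Loc.le_core inf_le_left (norm_inf (le_norm H) (le_normalizer_relCent h3 hZH)) h7)

end FH

end Cfsg.Lib.Loc
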